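import Mathlib
import Cfsg.Agent.H384.Cyc.Tools
import Cfsg.Agent.H55.OutGen
import Cfsg.Agent.H921.SporOrb
import Cfsg.Agent.H19.Odd.Heis

/-!
# TEAM TWOCYC (S3507): tools for the sporadic groups (helper489)
-/

set_option autoImplicit false

universe u v

namespace Cfsg.Agent.H489.Cyc

open Subgroup Cfsg Cfsg.Agent.H384.Cyc Cfsg.Agent.H954.OutDeg Cfsg.Agent.H912.Bd Cfsg.Agent.H921.Spor

/-! ### Automorphisms -/

/-- orders of automorphisms from the orders of elements -/
theorem mo_of_out {T : Type u} [Group T] [Finite T] {c m : ℕ} (hc : Nat.card (Cfsg.Out T) ≤ c)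
    (h : ∀ t : T, orderOf t ≤ m) : Mo T (c * m) := by
  have hN : (MulAut.conj : T →* MulAut T).range.Normal := by
    constructor
    rintro _ ⟨t, rfl⟩ α
    refine ⟨α t, ?_⟩
    ext g
    simp
  refine mo_of_index (MulAut.conj : T →* MulAut T).range ?_ ?_
  · rw [← H55.OutGen.card_out_eq_index]
    exact hc
  · rintro _ ⟨t, rfl⟩
    exact (Nat.le_of_dvd (orderOf_pos t) (orderOf_map_dvd _ t)).trans (h t)

/-! ### Degrees -/

/-- the bounds of helper912 for the characters -/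
theorem md_of_bd {T : Type} [Group T] [IsSimpleGroup T] {r m : ℕ} (h : Bd ℂ r m T) : MD T m := by
  refine md_of_rep (MonoidHom.id T) Function.surjective_id fun k ρ hρ hk => ?_
  have hker : (ρ : T →* ((Fin k → ℂ) →ₗ[ℂ] (Fin k → ℂ))).ker = ⊥ := by
    rcases IsSimpleGroup.eq_bot_or_eq_top_of_normal (ρ : T →* ((Fin k → ℂ) →ₗ[ℂ] (Fin k → ℂ))).ker inferInstance with h1 | h1
    · exact h1
    · exfalso
      have htriv : ∀ (g : T) (v : Fin k → ℂ), ρ g v = v := by
        intro g v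
        have h2 : g ∈ (ρ : T →* ((Fin k → ℂ) →ₗ[ℂ] (Fin k → ℂ))).ker := by rw [h1]; trivial
        rw [MonoidHom.mem_ker] at h2
        have h3 := congrArg (fun f : (Fin k → ℂ) →ₗ[ℂ] (Fin k → ℂ) => f v) h2
        exact h3
      let a : Fin k := ⟨0, by omega⟩
      let b : Fin k := ⟨1, by omega⟩
      have hab : a ≠ b := by
        intro h
        have := congrArg Fin.val h
        simp [a, b] at this
      let W : Subrepresentation ρ := ⟨Submodule.span ℂ {Pi.single a 1}, fun g v hv => by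
        rw [htriv]; exact hv⟩
      rcases hρ.eq_bot_or_eq_top W with h2 | h2
      · have h3 : (Pi.single a (1 : ℂ) : Fin k → ℂ) ∈ W.toSubmodule := Submodule.mem_span_singleton_self _
        rw [h2] at h3
        have h4 : (Pi.single a (1 : ℂ) : Fin k → ℂ) ∈ (⊥ : Submodule ℂ (Fin k → ℂ)) := h3
        have h5 := congrFun ((Submodule.mem_bot ℂ).1 h4) a
        rw [Pi.single_eq_same] at h5
        exact one_ne_zero h5
      · have h3 : (Pi.single b (1 : ℂ) : Fin k → ℂ) ∈ W.toSubmodule := by rw [h2]; exact Submodule.mem_top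
        obtain ⟨c, hc⟩ := Submodule.mem_span_singleton.1 h3
        have h5 := congrFun hc b
        rw [Pi.smul_apply, Pi.single_eq_of_ne hab.symm, Pi.single_eq_same, smul_zero] at h5
        exact zero_ne_one h5
  let e : ((Fin k → ℂ) →ₗ[ℂ] (Fin k → ℂ))ˣ ≃* GL (Fin k) ℂ :=
    (Matrix.GeneralLinearGroup.toLin (n := Fin k) (R := ℂ)).symm
  let ρ' : T →* GL (Fin k) ℂ := e.toMonoidHom.comp (MonoidHom.toHomUnits (ρ : T →* ((Fin k → ℂ) →ₗ[ℂ] (Fin k → ℂ))))
  refine h k ⟨T, inferInstance, MonoidHom.id T, ρ', Function.surjective_id, ?_, ?_, ?_⟩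
  · intro x hx y
    have : x = 1 := hx
    rw [this, one_mul, mul_one]
  · rw [(MonoidHom.ker_eq_bot_iff (MonoidHom.id T)).2 Function.injective_id, Subgroup.card_bot]
    exact Nat.coprime_one_left r
  · intro x hx
    rw [MonoidHom.mem_ker]
    have h1 : MonoidHom.toHomUnits (ρ : T →* ((Fin k → ℂ) →ₗ[ℂ] (Fin k → ℂ))) x = 1 := by
      apply e.injective
      rw [map_one]
      exact hx
    have h2 : x ∈ (ρ : T →* ((Fin k → ℂ) →ₗ[ℂ] (Fin k → ℂ))).ker := by
      rw [MonoidHom.mem_ker]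
      exact congrArg Units.val h1
    rw [hker] at h2
    exact h2

/-- an orbit of characters of an abelian subgroup -/
theorem md_of_orb {T : Type} [Group T] [IsSimpleGroup T] {r m : ℕ} (hr : r.Prime) (h : Orb r m T) : MD T m :=
  md_of_bd (h.bd hr (F := ℂ) (by exact_mod_cast hr.ne_zero))

/-! ### Orders -/

/-- an element of even order commutes with an involution which is a power of it -/
theorem orderOf_le_of_inv {G : Type u} [Group G] [Finite G] {m : ℕ}
    (h : ∀ t : G, t * t = 1 → t ≠ 1 → ∀ c : G, c * t = t * c → orderOf c ≤ m) {x : G} (hx : 2 ∣ orderOf x) :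
    orderOf x ≤ m := by
  obtain ⟨k, hk⟩ := hx
  have hk0 : k ≠ 0 := by
    rintro rfl
    have := orderOf_pos x
    omega
  have ho : orderOf (x ^ k) = 2 := by
    rw [orderOf_pow' _ hk0, hk, Nat.gcd_eq_right (Dvd.intro_left _ rfl), Nat.mul_div_cancel _ (Nat.pos_of_ne_zero hk0)]
  refine h (x ^ k) ?_ ?_ x (by rw [← pow_succ, ← pow_succ'])
  · rw [← pow_two, ← ho, pow_orderOf_eq_one]
  · intro h1
    rw [h1, orderOf_one] at ho
    omega

/-- conjugate involutions -/
theorem cent_conj {G : Type u} [Group G] {m : ℕ} {t s g : G} (hg : g * t * g⁻¹ = s)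
    (h : ∀ c : G, c * t = t * c → orderOf c ≤ m) : ∀ c : G, c * s = s * c → orderOf c ≤ m := by
  intro c hc
  have h1 := h (g⁻¹ * c * g) (by
    subst hg
    calc g⁻¹ * c * g * t = g⁻¹ * (c * (g * t * g⁻¹)) * g := by group
      _ = g⁻¹ * (g * t * g⁻¹ * c) * g := by rw [hc]
      _ = t * (g⁻¹ * c * g) := by group)
  have h2 : orderOf (g⁻¹ * c * g) = orderOf c := by
    have h3 := MulEquiv.orderOf_eq (MulAut.conj g⁻¹) c
    rwa [MulAut.conj_apply, inv_inv] at h3
  rwa [h2] at h1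

/-- **The exponent of the Sylow subgroups.** -/
theorem not_dvd_of_exp {G : Type u} [Group G] [Finite G] {p e n : ℕ} (hp : p.Prime) {P : Subgroup G}
    (hP : IsPGroup p P) (hc : p ^ n ≤ Nat.card P) (hG : ¬ p ^ (n + 1) ∣ Nat.card G) (he : ∀ g ∈ P, g ^ p ^ e = 1)
    (x : G) : ¬ p ^ (e + 1) ∣ orderOf x := by
  have : Fact p.Prime := ⟨hp⟩
  rintro ⟨k, hk⟩
  have hk0 : k ≠ 0 := by
    rintro rfl
    have := orderOf_pos x
    omega
  have ho : orderOf (x ^ k) = p ^ (e + 1) := by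
    rw [orderOf_pow' _ hk0, hk, Nat.gcd_eq_right (Dvd.intro_left _ rfl), Nat.mul_div_cancel _ (Nat.pos_of_ne_zero hk0)]
  have hz : IsPGroup p (zpowers (x ^ k)) := IsPGroup.of_card (n := e + 1) (by rw [Nat.card_zpowers, ho])
  obtain ⟨Q, hQ⟩ := hz.exists_le_sylow
  obtain ⟨S, hS⟩ := hP.exists_le_sylow
  have hSP : P = (S : Subgroup G) := by
    apply Subgroup.eq_of_le_of_card_ge hS
    obtain ⟨m, hm⟩ := IsPGroup.iff_card.1 S.isPGroup'
    have h3 : m ≤ n := by
      by_contra hcon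
      exact hG ((pow_dvd_pow p (by omega)).trans (hm ▸ Subgroup.card_subgroup_dvd_card (S : Subgroup G)))
    rw [hm]
    exact (Nat.pow_le_pow_right hp.pos h3).trans hc
  obtain ⟨g, hg⟩ := MulAction.exists_smul_eq G Q S
  have h1 : g * x ^ k * g⁻¹ ∈ P := by
    rw [hSP, ← hg]
    exact ⟨x ^ k, hQ (mem_zpowers _), rfl⟩
  have h2 := he _ h1
  have h3 : orderOf (g * x ^ k * g⁻¹) = p ^ (e + 1) := by
    rw [← ho]; exact MulEquiv.orderOf_eq (MulAut.conj g) (x ^ k)
  have h4 := orderOf_dvd_of_pow_eq_one h2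
  rw [h3, Nat.pow_dvd_pow_iff_le_right hp.one_lt] at h4
  omega

open Cfsg.Agent.H19.Odd in
/-- the group generated by `u`, `v` with central commutator has exponent `r` -/
theorem heis_pow {G : Type u} [Group G] {r : ℕ} (hr : r.Prime) (hr2 : r ≠ 2) {x u v : G} {k : ℕ} (hxr : x ^ r = 1)
    (hur : u ^ r = 1) (hvr : v ^ r = 1) (hxu : Commute x u) (hxv : Commute x v) (huv : u * v = v * u * x ^ k)
    {g : G} (hg : Heis.F x u v g) : g ^ r = 1 := by
  obtain ⟨j, i, l, rfl⟩ := hg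
  have key : ∀ m : ℕ, (v ^ j * u ^ i * x ^ l) ^ m = v ^ (j * m) * u ^ (i * m) * x ^ (k * i * j * (m * (m - 1) / 2) + l * m) := by
    intro m
    induction m with
    | zero => simp
    | succ m ih =>
      rw [pow_succ, ih, Heis.F_mul hxu hxv huv]
      have e1 : (m + 1) * (m + 1 - 1) / 2 = m * (m - 1) / 2 + m := by
        rw [Nat.add_sub_cancel]
        rcases Nat.eq_zero_or_pos m with rfl | hm
        · rfl
        · obtain ⟨w, rfl⟩ : ∃ w, m = w + 1 := ⟨m - 1, by omega⟩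
          rw [Nat.add_sub_cancel]
          have h1 : (w + 1 + 1) * (w + 1) = (w + 1) * w + (w + 1) * 2 := by ring
          rw [h1, Nat.add_mul_div_right _ _ (by norm_num)]
      have e2 : k * (i * m) * j + (k * i * j * (m * (m - 1) / 2) + l * m) + l =
          k * i * j * ((m + 1) * (m + 1 - 1) / 2) + l * (m + 1) := by
        rw [e1]; ring
      rw [e2, show j * m + j = j * (m + 1) by ring, show i * m + i = i * (m + 1) by ring]
  rw [key r]
  have hdiv : ∃ w, r * (r - 1) / 2 = w * r := by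
    obtain ⟨w, hw⟩ := hr.odd_of_ne_two hr2
    refine ⟨w, ?_⟩
    rw [hw, Nat.add_sub_cancel, show (2 * w + 1) * (2 * w) = w * (2 * w + 1) * 2 by ring, Nat.mul_div_cancel _ (by norm_num)]
  obtain ⟨w, hw⟩ := hdiv
  rw [hw, mul_comm j r, mul_comm i r, pow_mul, pow_mul, hvr, hur, one_pow, one_pow, one_mul, one_mul,
    show k * i * j * (w * r) + l * r = r * (k * i * j * w + l) by ring, pow_mul, hxr, one_pow]

open Cfsg.Agent.H19.Odd in
/-- no element of order `p²` -/
theorem not_sq_of_comm {G : Type u} [Group G] [Finite G] {p : ℕ} (hp : p.Prime) {u v : G} (hu : u ^ p = 1)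
    (hv : v ^ p = 1) (huv : u * v = v * u) (hu1 : u ≠ 1) (hvu : v ∉ zpowers u) (hG : ¬ p ^ 3 ∣ Nat.card G) (x : G) :
    ¬ p ^ 2 ∣ orderOf x := by
  have : Fact p.Prime := ⟨hp⟩
  have huv' : u * v = v * u * 1 ^ 0 := by rw [huv, one_pow, mul_one]
  have h1u : Commute (1 : G) u := Commute.one_left u
  have h1v : Commute (1 : G) v := Commute.one_left v
  have hP := Heis.isPGroup_P (r := p) (one_pow p) hu hv h1u h1v huv'
  have huo : orderOf u = p := orderOf_eq_prime hu hu1
  have hle : zpowers u ≤ Heis.P h1u h1v huv' := by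
    rw [zpowers_le]
    exact Heis.mem_P_u h1u h1v huv'
  have hlt : p < Nat.card (Heis.P h1u h1v huv') := by
    rcases Nat.lt_or_ge p (Nat.card (Heis.P h1u h1v huv')) with h | h
    · exact h
    · exfalso
      have h2 := Subgroup.eq_of_le_of_card_ge hle (by rwa [Nat.card_zpowers, huo])
      exact hvu (h2 ▸ Heis.mem_P_v h1u h1v huv')
  have hcard : p ^ 2 ≤ Nat.card (Heis.P h1u h1v huv') := by
    obtain ⟨n, hn⟩ := IsPGroup.iff_card.1 hP
    rw [hn] at hlt ⊢
    refine Nat.pow_le_pow_right hp.pos ?_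
    by_contra h
    have h3 : n ≤ 1 := by omega
    have h4 := Nat.pow_le_pow_right hp.pos h3
    rw [pow_one] at h4
    omega
  refine not_dvd_of_exp (e := 1) (n := 2) hp hP hcard hG (fun g hg => ?_) x
  obtain ⟨j, i, l, rfl⟩ := hg
  rw [pow_one, one_pow, mul_one, (show Commute (v ^ j) (u ^ i) from
    (show Commute v u from huv.symm).pow_pow j i).mul_pow, ← pow_mul, ← pow_mul, mul_comm j, mul_comm i, pow_mul,
    pow_mul, hu, hv, one_pow, one_pow, one_mul]

/-- divisors with bounded exponents -/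
theorem dvd_of_list {N M : ℕ} (L : List (ℕ × ℕ × ℕ)) (hM : M = (L.map fun x => x.1 ^ x.2.1).prod)
    (hp : ∀ x ∈ L, x.1.Prime) (hN : N ∣ M) (h : ∀ x ∈ L, ¬ x.1 ^ (x.2.2 + 1) ∣ N) :
    N ∣ (L.map fun x => x.1 ^ x.2.2).prod := by
  rw [Nat.dvd_iff_prime_pow_dvd_dvd]
  intro p k hpp hk
  rcases Nat.eq_zero_or_pos k with rfl | hk0
  · rw [pow_zero]; exact one_dvd _
  have h1 : p ∣ (L.map fun x => x.1 ^ x.2.1).prod := by
    rw [← hM]
    exact (dvd_pow_self p hk0.ne').trans (hk.trans hN)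
  obtain ⟨y, hy, hpy⟩ := (Prime.dvd_prod_iff hpp.prime).1 h1
  obtain ⟨x, hx, rfl⟩ := List.mem_map.1 hy
  have h2 : p = x.1 := (Nat.prime_dvd_prime_iff_eq hpp (hp x hx)).1 (hpp.dvd_of_dvd_pow hpy)
  subst h2
  have h3 : k ≤ x.2.2 := by
    by_contra hcon
    exact h x hx ((pow_dvd_pow _ (by omega)).trans hk)
  exact (pow_dvd_pow _ h3).trans (List.dvd_prod (List.mem_map.2 ⟨x, hx, rfl⟩))

end Cfsg.Agent.H489.Cyc
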