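import Mathlib
import Cfsg.Agent.H489.Cyc.Base
import Cfsg.Agent.H489.DegHe
import Cfsg.Agent.H19.Odd.HeEl
import Cfsg.Agent.H19.Odd.HeEl7
import Cfsg.Agent.H19.Odd.HeCntD
import Cfsg.Agent.CTwoTab.He
import Cfsg.Agent.H346.LNOrd
import Cfsg.Agent.H514.OrdL34
import Cfsg.Agent.S2075
import Cfsg.Agent.S1695

/-!
# TEAM TWOCYC (S3507): the Held group (helper489)
-/

set_option autoImplicit false
set_option maxRecDepth 100000

universe u

namespace Cfsg.Agent.H489.Cyc.HeG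

open Subgroup Cfsg Cfsg.Agent.H384.Cyc Cfsg.Agent.H954.OutDeg Cfsg.Agent.H912.Bd Cfsg.Agent.H921.Spor
open Cfsg.Agent.CTwoTab.He
open Cfsg.Agent.KFacts.He.Lv Cfsg.Agent.KFacts.He.TwoACent Cfsg.Agent.KFacts.He.TwoAPlane
open Cfsg.Agent.SporadicA.FieldFour
open Cfsg.Agent.H19.Odd
open Cfsg.Agent.SporadicB.HePerm (act wd phi phi_wd_apply)

/-- elements commuting with an involution of type 2B -/
theorem le_z (c : Cfsg.Spor.He) (hc : c * CTwoTab.He.z = CTwoTab.He.z * c) : orderOf c ≤ 31 := by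
  obtain ⟨c', rfl⟩ := CTwoTab.He.mem_range (mem_centralizer_singleton_iff.2 hc)
  have hinj := Cfsg.Agent.KFacts.He.Hyp.hyp.inj
  rw [orderOf_injective _ hinj, ← Subgroup.orderOf_coe,
    ← orderOf_injective Matrix.SpecialLinearGroup.toGL (Matrix.SpecialLinearGroup.toGL_injective)]
  exact H346.LNOrd.orderOf_le (by simp [ZMod.card]) (by norm_num) _

/-- elements commuting with an involution of type 2A -/
theorem le_a (c : Cfsg.Spor.He) (hc : c * gn .a = gn .a * c) : orderOf c ≤ 31 := by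
  have hL : c * c ∈ L := by
    rcases two hc hc with h | h | h
    · exact L.mul_mem h h
    · exact L.mul_mem h h
    · exact h
  have h1 := H514.OC.L34.orderOf_cases (F := F4) card_F4 quotEquiv (QuotientGroup.mk' (center ↥L) ⟨c * c, hL⟩)
  obtain ⟨k, hk7, hk0, hk⟩ : ∃ k, k ≤ 7 ∧ 0 < k ∧ (QuotientGroup.mk' (center ↥L) ⟨c * c, hL⟩) ^ k = 1 := by
    refine ⟨orderOf (QuotientGroup.mk' (center ↥L) ⟨c * c, hL⟩), ?_, ?_, pow_orderOf_eq_one _⟩
    · omega
    · omega
  have h2 : (⟨c * c, hL⟩ : ↥L) ^ k ∈ center ↥L := by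
    rw [← map_pow] at hk
    exact (QuotientGroup.eq_one_iff _).1 hk
  have h3 := congrArg Subtype.val (sq_center_L h2)
  have h4 : c ^ (4 * k) = 1 := by
    have h5 : ((c * c) ^ k) ^ 2 = 1 := h3
    rw [← h5, ← pow_two, ← pow_mul, ← pow_mul]
    congr 1
    ring
  exact (Nat.le_of_dvd (by omega) (orderOf_dvd_of_pow_eq_one h4)).trans (by omega)

theorem even {x : Cfsg.Spor.He} (hx : 2 ∣ orderOf x) : orderOf x ≤ 31 := by
  have hfin := Cfsg.Agent.KFacts.He.Hyp.finHe
  refine orderOf_le_of_inv (fun t ht h1 => ?_) hx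
  rcases Cfsg.Agent.KFacts.He.Classes.two_classes_a ht h1 with ⟨g, hg⟩ | ⟨g, hg⟩
  · exact cent_conj hg le_z
  · exact cent_conj hg le_a

theorem card : Nat.card Cfsg.Spor.He = 4030387200 := KFacts.He.Classes.card_he

theorem not_nine (x : Cfsg.Spor.He) : ¬ 9 ∣ orderOf x := by
  have hfin := Cfsg.Agent.KFacts.He.Hyp.finHe
  have h3 : Fact (Nat.Prime 3) := ⟨Nat.prime_three⟩
  have h := not_dvd_of_exp (e := 1) (n := 3) Nat.prime_three
    (Heis.isPGroup_P HeEl.A_pow HeEl.U3_pow HeEl.V3_pow HeEl.A_U3 HeEl.A_V3 HeEl.U3_V3)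
    (Nat.le_of_dvd Nat.card_pos (Heis.card_P_dvd HeEl.A_pow HeEl.U3_pow HeEl.V3_pow HeEl.A_U3 HeEl.A_V3 HeEl.U3_V3
      (by norm_num) HeEl.A_ne)) (by rw [card]; norm_num)
    (fun g hg => heis_pow Nat.prime_three (by norm_num) HeEl.A_pow HeEl.U3_pow HeEl.V3_pow HeEl.A_U3 HeEl.A_V3
      HeEl.U3_V3 hg) x
  exact h

theorem not_fortynine (x : Cfsg.Spor.He) : ¬ 49 ∣ orderOf x := by
  have hfin := Cfsg.Agent.KFacts.He.Hyp.finHe
  have h7 : Fact (Nat.Prime 7) := ⟨by norm_num⟩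
  have h := not_dvd_of_exp (e := 1) (n := 3) (p := 7) (by norm_num)
    (Heis.isPGroup_P HeEl.C_pow HeEl.U7_pow HeEl.V7_pow HeEl.C_U7 HeEl.C_V7 HeEl.U7_V7)
    (Nat.le_of_dvd Nat.card_pos (Heis.card_P_dvd HeEl.C_pow HeEl.U7_pow HeEl.V7_pow HeEl.C_U7 HeEl.C_V7 HeEl.U7_V7
      (by norm_num) HeEl.C_ne)) (by rw [card]; norm_num)
    (fun g hg => heis_pow (by norm_num) (by norm_num) HeEl.C_pow HeEl.U7_pow HeEl.V7_pow HeEl.C_U7 HeEl.C_V7
      HeEl.U7_V7 hg) x
  exact h

theorem U5_ne : wd HeEl.U5 ≠ 1 := CpAutHe.Seven.ne_one_of_act 30 (by decide +kernel)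

theorem V5_not : wd HeEl.V5 ∉ zpowers (wd HeEl.U5) := by
  intro h
  obtain ⟨k, hk⟩ := mem_zpowers_iff.1 h
  have h1 : phi (wd HeEl.U5) 139 = 139 := by
    apply Fin.ext
    rw [phi_wd_apply]
    decide +kernel
  have h2 : phi (wd HeEl.V5) 139 = 139 := by
    rw [← hk, map_zpow]
    exact Equiv.Perm.zpow_apply_eq_self_of_apply_eq_self h1 k
  have h3 : act HeEl.V5 139 = 139 := by
    have := congrArg Fin.val h2
    rwa [phi_wd_apply] at this
  have h4 : Nat.beq (act HeEl.V5 139) 139 = false := by decide +kernel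
  rw [h3] at h4
  exact absurd h4 (by decide)

theorem not_twentyfive (x : Cfsg.Spor.He) : ¬ 25 ∣ orderOf x := by
  have hfin := Cfsg.Agent.KFacts.He.Hyp.finHe
  exact not_sq_of_comm (p := 5) (by norm_num) HeEl.U5_pow HeEl.V5_pow HeEl.U5_V5 U5_ne V5_not
    (by rw [card]; norm_num) x

theorem odd {x : Cfsg.Spor.He} (hx : ¬ 2 ∣ orderOf x) : orderOf x ≤ 31 := by
  have hfin := Cfsg.Agent.KFacts.He.Hyp.finHe
  by_cases h17 : 17 ∣ orderOf x
  · obtain ⟨k, hk⟩ := h17
    have hk0 : k ≠ 0 := by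
      rintro rfl
      have := orderOf_pos x
      omega
    have ho : orderOf (x ^ k) = 17 := by
      rw [orderOf_pow' _ hk0, hk, Nat.gcd_eq_right (Dvd.intro_left _ rfl), Nat.mul_div_cancel _ (Nat.pos_of_ne_zero hk0)]
    have h1 := HeCnt.seventeen ho
    have h2 : x ∈ centralizer ({x ^ k} : Set Cfsg.Spor.He) := by
      rw [mem_centralizer_singleton_iff, ← pow_succ, ← pow_succ']
    have h3 := orderOf_dvd_natCard (⟨x, h2⟩ : centralizer ({x ^ k} : Set Cfsg.Spor.He))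
    rw [Subgroup.orderOf_mk] at h3
    exact (Nat.le_of_dvd Nat.card_pos h3).trans (h1.trans (by norm_num))
  · have h35 : ¬ 35 ∣ orderOf x := by
      rintro ⟨k, hk⟩
      have hk0 : k ≠ 0 := by
        rintro rfl
        have := orderOf_pos x
        omega
      have hpow : ∀ a b : ℕ, a * b = 35 → 0 < b → orderOf (x ^ (a * k)) = b := by
        intro a b hab hb
        have ha0 : a ≠ 0 := by rintro rfl; omega
        have h1 : orderOf x = (a * k) * b := by rw [hk, ← hab]; ring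
        rw [orderOf_pow' _ (mul_ne_zero ha0 hk0), h1, Nat.gcd_eq_right (Dvd.intro _ rfl),
          Nat.mul_div_cancel_left _ (Nat.pos_of_ne_zero (mul_ne_zero ha0 hk0))]
      exact HeEl.five (hpow 7 5 (by norm_num) (by norm_num)) (hpow 5 7 (by norm_num) (by norm_num))
        ((Commute.refl x).pow_pow _ _)
    have h1 := dvd_of_list (N := orderOf x) (M := 4030387200) [(2, 10, 0), (3, 3, 1), (5, 2, 1), (7, 3, 1), (17, 1, 0)]
      (by norm_num) (by simp; norm_num) (card ▸ orderOf_dvd_natCard x) (by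
        simp only [List.mem_cons, List.not_mem_nil, or_false, forall_eq_or_imp, forall_eq]
        exact ⟨hx, not_nine x, not_twentyfive x, not_fortynine x, h17⟩)
    have h2 : orderOf x ∣ 105 := by simpa using h1
    have h3 : orderOf x ∈ Nat.divisors 105 := Nat.mem_divisors.2 ⟨h2, by norm_num⟩
    have h4 : Nat.divisors 105 = {1, 3, 5, 7, 15, 21, 35, 105} := by decide +kernel
    rw [h4] at h3
    simp only [Finset.mem_insert, Finset.mem_singleton] at h3
    rcases h3 with h | h | h | h | h | h | h | h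
    · rw [h]; norm_num
    · rw [h]; norm_num
    · rw [h]; norm_num
    · rw [h]; norm_num
    · rw [h]; norm_num
    · rw [h]; norm_num
    · exact absurd ⟨1, by rw [h]⟩ h35
    · exact absurd ⟨3, by rw [h]⟩ h35

theorem orderOf_le (x : Cfsg.Spor.He) : orderOf x ≤ 31 := by
  by_cases h : 2 ∣ orderOf x
  · exact even h
  · exact odd h

theorem mo : Mo Cfsg.Spor.He 62 := by
  have hfin := Cfsg.Agent.KFacts.He.Hyp.finHe
  exact mo_of_out (c := 2) (m := 31) S2075.result.le orderOf_le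

theorem md : MD Cfsg.Spor.He 42 := by
  have hs : IsSimpleGroup Cfsg.Spor.He := S1695.result.1
  exact md_of_bd (r := 7) (Deg.He.he_seven (F := ℂ) (by norm_num))

/-- **The Held group.** -/
theorem smC {T : Type u} [Group T] (h : Spor.IsoHe T) : SmC T := by
  obtain ⟨e⟩ := h
  exact SmC.congr ⟨62, 42, mo, md, by norm_num⟩ e.symm

theorem ord {T : Type u} [Group T] (h : Spor.IsoHe T) : H384.Cyc.Ord T := by
  obtain ⟨e⟩ := h
  exact H384.Cyc.Ord.congr ⟨62, mo, by rw [card]; norm_num⟩ e.symm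

end Cfsg.Agent.H489.Cyc.HeG
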