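import Mathlib
import Cfsg.Agent.H489.Cyc.Base
import Cfsg.Agent.H489.Cyc.ONDeg
import Cfsg.Agent.H51.ONSeven
import Cfsg.Agent.H461.Cop.ON
import Cfsg.Agent.H474.ONC.End
import Cfsg.Agent.H19.Odd.ONEl
import Cfsg.Agent.H514.OrdL34
import Cfsg.Agent.CpAut.SporThree.ON
import Cfsg.Agent.S2078

/-!
# TEAM TWOCYC (S3507): the O'Nan group (helper489)
-/

set_option autoImplicit false
set_option maxRecDepth 100000

universe u

namespace Cfsg.Agent.H489.Cyc.ONG

open Subgroup Cfsg.Agent.H384.Cyc Cfsg.Agent.H954.OutDeg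
open Cfsg.Spor (ON)
open Cfsg.Agent.SporadicB.ON45Word (on)
open Cfsg.Agent.ONType.TupK (K0)
open Cfsg.Agent.KFacts.ON.Cent (finite_ON)
open Cfsg.Agent.KFacts.ON.Words Cfsg.Agent.KFacts.ON.Struct Cfsg.Agent.KFacts.ON.Qs
open Cfsg.Agent.KFacts.ON.OneClass (card_ON one_class)
open Cfsg.Agent.SporadicA.FieldFour
open Cfsg.Agent.H19.Odd
open scoped commutatorElement

/-- elements commuting with the involution `f` -/
theorem le_f (c : ON) (hc : c * on .f = on .f * c) : orderOf c ≤ 60 := by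
  have hK : c ∈ K0 := Cfsg.Agent.KFacts.ON.Struct.mem_K0.2 hc
  have hL : c * c ∈ J := by
    rcases mem_J_or hK with h | h
    · exact J.mul_mem h h
    · have h1 : c = c * on .d * on .d := by rw [mul_assoc, dd, mul_one]
      have h2 : on .d * (c * on .d) * (on .d)⁻¹ ∈ J := J_normal d_mem h
      have h3 : c * c = c * on .d * (on .d * (c * on .d) * (on .d)⁻¹) := by
        rw [d_inv]
        calc c * c = c * 1 * (c * 1) := by simp only [mul_one]
          _ = c * (on .d * on .d) * (c * (on .d * on .d)) := by rw [dd]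
          _ = _ := by simp only [mul_assoc]
      rw [h3]
      exact J.mul_mem h h2
  obtain ⟨φ, hφ⟩ := H461.Cop.exists_phi
  have h1 := H514.OC.L34.orderOf_cases (F := F4) F4.card_eq (MulEquiv.refl ONType.Psl.PSL3) (φ ⟨c * c, hL⟩)
  obtain ⟨k, hk7, hk0, hk⟩ : ∃ k, k ≤ 7 ∧ 0 < k ∧ (φ ⟨c * c, hL⟩) ^ k = 1 := by
    refine ⟨orderOf (φ ⟨c * c, hL⟩), ?_, ?_, pow_orderOf_eq_one _⟩
    · omega
    · omega
  have h2 : (⟨c * c, hL⟩ : ↥J) ^ k ∈ center ↥J := by
    rw [← hφ, MonoidHom.mem_ker, map_pow]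
    exact hk
  have h3 : (c * c) ^ k ∈ zpowers v := mem_center.1 h2
  have h4 : c ^ (8 * k) = 1 := by
    obtain ⟨i, hi⟩ := mem_zpowers_iff.1 h3
    have h5 : ((c * c) ^ k) ^ 4 = 1 := by
      rw [← hi, ← zpow_natCast, ← zpow_mul, mul_comm, zpow_mul, zpow_natCast]
      have h6 : v ^ 4 = 1 := by
        rw [show (4 : ℕ) = 2 * 2 by norm_num, pow_mul, pow_two v, vv, pow_two, ff]
      rw [h6, one_zpow]
    rw [← h5, ← pow_two, ← pow_mul, ← pow_mul]
    congr 1
    ring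
  exact (Nat.le_of_dvd (by omega) (orderOf_dvd_of_pow_eq_one h4)).trans (by omega)

theorem even {x : ON} (hx : 2 ∣ orderOf x) : orderOf x ≤ 60 := by
  have hfin := finite_ON
  refine orderOf_le_of_inv (fun t ht h1 => ?_) hx
  obtain ⟨g, hg⟩ := isConj_iff.1 (one_class ht h1).symm
  exact cent_conj hg le_f

theorem not_nine (x : ON) : ¬ 9 ∣ orderOf x := by
  have hfin := finite_ON
  obtain ⟨E, hE, hEc, hE3⟩ := CpAut.SporThree.ON.exists_E
  have h := not_dvd_of_exp (e := 1) (n := 4) Nat.prime_three (P := E) (IsPGroup.of_card hE) hE.ge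
    (by rw [card_ON]; norm_num) (fun g hg => by rw [pow_one]; exact hE3 g hg) x
  exact h

theorem not_fortynine (x : ON) : ¬ 49 ∣ orderOf x := by
  have hfin := finite_ON
  have h7 : Fact (Nat.Prime 7) := ⟨by norm_num⟩
  set a := KFacts.MulSpor.ON.w H51.ONSeven.wx with ha
  set b := KFacts.MulSpor.ON.w H51.ONSeven.wy with hb
  have hcx : Commute ⁅a, b⁆ a := H51.ONSeven.cx hs
  have hcy : Commute ⁅a, b⁆ b := H51.ONSeven.cy hs
  have ha7 : a ^ 7 = 1 := H51.ONSeven.x7 hs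
  have hb7 : b ^ 7 = 1 := H51.ONSeven.y7 hs
  have hne : ⁅a, b⁆ ≠ 1 := H51.ONSeven.c_ne hs
  have hab : a * b = b * a * ⁅a, b⁆ ^ 1 := by
    rw [pow_one, mul_assoc, ← hcx.eq, ← mul_assoc, ← hcy.eq, commutatorElement_def]
    group
  have hc7 : ⁅a, b⁆ ^ 7 = 1 := by
    have h1 : a * b * a⁻¹ = ⁅a, b⁆ * b := by
      rw [commutatorElement_def]; group
    have h2 : (a * b * a⁻¹) ^ 7 = a * b ^ 7 * a⁻¹ := conj_pow
    rw [h1, hcy.mul_pow, hb7] at h2
    simpa using h2
  have h := not_dvd_of_exp (e := 1) (n := 3) (p := 7) (by norm_num)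
    (Heis.isPGroup_P hc7 ha7 hb7 hcx hcy hab)
    (Nat.le_of_dvd Nat.card_pos (Heis.card_P_dvd hc7 ha7 hb7 hcx hcy hab (by norm_num) hne))
    (by rw [card_ON]; norm_num)
    (fun g hg => heis_pow (by norm_num) (by norm_num) hc7 ha7 hb7 hcx hcy hab hg) x
  exact h

/-- the order divides the order of the centralizer of a power -/
theorem dvd_cent {G : Type*} [Group G] [Finite G] {x : G} {p : ℕ} (h : p ∣ orderOf x) :
    ∃ y : G, orderOf y = p ∧ orderOf x ∣ Nat.card ↥(centralizer ({y} : Set G)) := by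
  obtain ⟨k, hk⟩ := h
  have hx := orderOf_pos x
  have hk0 : k ≠ 0 := by
    rintro rfl
    omega
  have ho : orderOf (x ^ k) = p := by
    rw [orderOf_pow' _ hk0, hk, Nat.gcd_eq_right (Dvd.intro_left _ rfl), Nat.mul_div_cancel _ (Nat.pos_of_ne_zero hk0)]
  refine ⟨x ^ k, ho, ?_⟩
  have h2 : x ∈ centralizer ({x ^ k} : Set G) := by
    rw [mem_centralizer_singleton_iff, ← pow_succ, ← pow_succ']
  have h3 := orderOf_dvd_natCard (⟨x, h2⟩ : centralizer ({x ^ k} : Set G))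
  rwa [Subgroup.orderOf_mk] at h3

theorem odd {x : ON} (hx : ¬ 2 ∣ orderOf x) : orderOf x ≤ 60 := by
  have hfin := finite_ON
  by_cases h31 : 31 ∣ orderOf x
  · obtain ⟨y, hy, h⟩ := dvd_cent h31
    rw [ONEl.card_31 hy] at h
    exact (Nat.le_of_dvd (by norm_num) h).trans (by norm_num)
  by_cases h19 : 19 ∣ orderOf x
  · obtain ⟨y, hy, h⟩ := dvd_cent h19
    rw [ONEl.card_nineteen hy] at h
    exact (Nat.le_of_dvd (by norm_num) h).trans (by norm_num)
  by_cases h11 : 11 ∣ orderOf x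
  · obtain ⟨y, hy, h⟩ := dvd_cent h11
    rw [H474.ONC.card_cent_eleven hy] at h
    exact (Nat.le_of_dvd (by norm_num) h).trans (by norm_num)
  by_cases h57 : 5 ∣ orderOf x ∧ 7 ∣ orderOf x
  · exfalso
    obtain ⟨y, hy, h⟩ := dvd_cent h57.1
    rw [H474.ONC.card_cent_five hy] at h
    exact absurd (h57.2.trans h) (by norm_num)
  have h1 := dvd_of_list (N := orderOf x) (M := 460815505920)
    [(2, 9, 0), (3, 4, 1), (5, 1, 1), (7, 3, 1), (11, 1, 0), (19, 1, 0), (31, 1, 0)]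
    (by norm_num) (by simp; norm_num) (card_ON ▸ orderOf_dvd_natCard x) (by
      simp only [List.mem_cons, List.not_mem_nil, or_false, forall_eq_or_imp, forall_eq]
      refine ⟨hx, not_nine x, ?_, not_fortynine x, h11, h19, h31⟩
      intro h
      exact absurd (h.trans (card_ON ▸ orderOf_dvd_natCard x)) (by norm_num))
  have h2 : orderOf x ∣ 105 := by simpa using h1
  have h3 : orderOf x ∈ Nat.divisors 105 := Nat.mem_divisors.2 ⟨h2, by norm_num⟩
  have h4 : Nat.divisors 105 = {1, 3, 5, 7, 15, 21, 35, 105} := by decide +kernel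
  rw [h4] at h3
  simp only [Finset.mem_insert, Finset.mem_singleton] at h3
  rcases h3 with h | h | h | h | h | h | h | h
  · rw [h]; norm_num
  · rw [h]; norm_num
  · rw [h]; norm_num
  · rw [h]; norm_num
  · rw [h]; norm_num
  · rw [h]; norm_num
  · exact absurd ⟨⟨7, by rw [h]⟩, ⟨5, by rw [h]⟩⟩ h57
  · exact absurd ⟨⟨21, by rw [h]⟩, ⟨15, by rw [h]⟩⟩ h57

theorem orderOf_le (x : ON) : orderOf x ≤ 60 := by
  by_cases h : 2 ∣ orderOf x
  · exact even h
  · exact odd h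

theorem mo : Mo ON 120 := by
  have hfin := finite_ON
  exact mo_of_out (c := 2) (m := 60) S2078.result.le orderOf_le

/-- **The O'Nan group.** -/
theorem smC {T : Type u} [Group T] (h : Cfsg.Spor.IsoON T) : SmC T := by
  obtain ⟨e⟩ := h
  exact SmC.congr ⟨120, 80, mo, md, by norm_num⟩ e.symm

theorem ord {T : Type u} [Group T] (h : Cfsg.Spor.IsoON T) : H384.Cyc.Ord T := by
  obtain ⟨e⟩ := h
  exact H384.Cyc.Ord.congr ⟨120, mo, by rw [card_ON]; norm_num⟩ e.symm

end Cfsg.Agent.H489.Cyc.ONG
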