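import Cfsg.Agent.H489.Cyc.Bfs
import Cfsg.Agent.H489.Cyc.Base
import Cfsg.Agent.H489.DegRu

/-!
# The Rudvalis group: an elementary abelian group of order 64 with 63 conjugate functionals (helper489)

`2^6 : G_2(2)`: all elements of the subgroup are in the class 2A.
-/

set_option autoImplicit false
set_option maxRecDepth 100000
set_option maxHeartbeats 0

namespace Cfsg.Agent.H489.Cyc.RuG

open Cfsg Cfsg.Agent.SporadicB Cfsg.Agent.KFacts.RuDbl.Four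
open Cfsg.Agent.H921.Spor Cfsg.Agent.H489.Deg.Ru


def X : List (List ℕ) :=
    [[2, 1, 3, 1, 2, 1, 2, 3, 2, 3, 2, 1, 2, 1, 3, 1, 2], [0, 1, 0, 2, 0, 2, 1, 3, 1, 2, 1, 3, 1, 2, 0, 2, 0,
    1, 0], [2, 0, 1, 0, 3, 2, 0, 2, 0, 3, 0, 2, 0, 2, 3, 0, 1, 0, 2], [1, 3, 0, 3, 1, 0, 2, 3, 1, 3, 1, 3, 2,
    0, 1, 3, 0, 3, 1], [0, 1, 0, 3, 2, 1, 2, 1, 0, 1, 2, 1, 3, 0, 2, 3, 1, 0, 2], [2, 1, 0, 1, 0, 2, 1, 0, 3,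
    1, 3, 0, 1, 2, 0, 1, 0, 1, 2]]

def G : List (List ℕ) :=
    [[1, 0, 2, 1, 2, 3, 0, 3, 1, 3, 0, 3, 1, 2, 1, 3, 2, 1, 3], [2, 3, 0, 1, 0, 3, 1, 2, 1, 3, 1, 2, 3, 0, 1,
    3, 0, 2, 3, 0]]

def B : List (List (List ℕ)) :=
    [[[0, 1, 1, 0, 1, 1], [1, 1, 0, 0, 1, 1], [0, 0, 0, 1, 0, 1], [0, 1, 1, 1, 0, 0], [1, 0, 1, 1, 0, 0], [0,
    0, 1, 1, 1, 0]], [[1, 1, 0, 1, 0, 0], [0, 1, 0, 1, 0, 0], [1, 1, 0, 1, 1, 0], [1, 0, 1, 1, 1, 0], [0, 0,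
    0, 1, 0, 0], [1, 0, 0, 1, 1, 1]]]

def Bi : List (List (List ℕ)) :=
    [[[1, 0, 1, 1, 1, 1], [1, 0, 1, 0, 0, 1], [0, 1, 1, 1, 1, 1], [1, 1, 0, 0, 1, 0], [1, 0, 1, 1, 0, 0], [1,
    1, 1, 0, 1, 0]], [[1, 1, 0, 0, 0, 0], [0, 1, 0, 0, 1, 0], [0, 1, 1, 1, 1, 0], [0, 0, 0, 0, 1, 0], [1, 0,
    1, 0, 0, 0], [0, 1, 1, 0, 1, 1]]]

def Ls : List (List ℕ × List (ℕ × ℕ × ℕ × List ℕ)) :=
    [([0, 0, 0, 0, 0, 1], [(0, 0, 2, [1, 1, 1, 0, 0, 0]), (0, 1, 3, [0, 1, 0, 0, 0, 1]), (1, 3, 1, [0, 1, 0,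
    0, 0, 0]), (1, 0, 2, [0, 0, 1, 1, 0, 0]), (2, 1, 3, [1, 1, 1, 0, 0, 1]), (3, 2, 0, [1, 1, 0, 1, 0, 1]),
    (3, 0, 2, [1, 1, 0, 1, 0, 0]), (4, 2, 0, [0, 0, 1, 1, 0, 1]), (4, 0, 2, [1, 0, 1, 0, 0, 0]), (5, 1, 3, [1,
    1, 1, 0, 1, 1]), (6, 3, 1, [0, 0, 0, 0, 1, 1]), (5, 1, 3, [1, 0, 1, 0, 1, 1]), (6, 3, 1, [0, 1, 0, 0, 1,
    0]), (6, 0, 2, [1, 0, 1, 0, 0, 1]), (7, 1, 3, [1, 0, 1, 0, 1, 0]), (8, 3, 1, [0, 1, 0, 0, 1, 1]), (8, 1,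
    3, [1, 1, 1, 0, 1, 0]), (9, 3, 1, [0, 0, 0, 0, 1, 0]), (8, 0, 2, [0, 0, 1, 0, 0, 0]), (9, 1, 3, [0, 1, 1,
    1, 0, 1]), (10, 2, 0, [0, 1, 0, 1, 0, 0]), (10, 0, 2, [0, 0, 1, 0, 0, 1]), (11, 2, 0, [0, 1, 0, 1, 0, 1]),
    (12, 3, 1, [0, 1, 1, 1, 0, 0]), (12, 0, 2, [1, 1, 1, 1, 0, 0]), (13, 1, 3, [1, 0, 0, 1, 0, 1]), (14, 2, 0,
    [0, 1, 1, 0, 0, 1]), (14, 0, 2, [0, 0, 0, 1, 0, 1]), (15, 2, 0, [1, 0, 0, 0, 0, 0]), (16, 3, 1, [1, 0, 0,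
    1, 0, 0]), (15, 0, 2, [0, 0, 0, 1, 0, 0]), (16, 2, 0, [1, 0, 0, 0, 0, 1]), (16, 0, 2, [1, 1, 1, 1, 0, 1]),
    (17, 2, 0, [0, 1, 1, 0, 0, 0]), (17, 0, 2, [1, 1, 0, 0, 0, 0]), (18, 2, 0, [1, 0, 1, 1, 0, 0]), (18, 0, 2,
    [1, 1, 0, 0, 0, 1]), (19, 2, 0, [1, 0, 1, 1, 0, 1]), (19, 0, 2, [1, 0, 0, 1, 1, 1]), (20, 3, 1, [0, 0, 1,
    0, 1, 1]), (19, 1, 3, [0, 0, 0, 1, 1, 1]), (19, 0, 2, [0, 1, 1, 1, 1, 1]), (20, 3, 1, [0, 0, 1, 0, 1, 0]),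
    (20, 1, 3, [0, 0, 0, 1, 1, 0]), (19, 0, 2, [0, 0, 1, 1, 1, 0]), (20, 1, 3, [1, 0, 1, 1, 1, 0]), (19, 3, 1,
    [1, 1, 0, 0, 1, 1]), (19, 0, 2, [1, 1, 0, 1, 1, 1]), (20, 1, 3, [1, 1, 1, 1, 1, 0]), (20, 3, 1, [1, 0, 0,
    0, 1, 0]), (19, 0, 2, [0, 0, 1, 1, 1, 1]), (20, 1, 3, [1, 1, 1, 1, 1, 1]), (20, 3, 1, [1, 0, 0, 0, 1, 1]),
    (20, 0, 2, [1, 1, 0, 1, 1, 0]), (21, 1, 3, [1, 0, 1, 1, 1, 1]), (21, 3, 1, [1, 1, 0, 0, 1, 0]), (21, 0, 2,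
    [1, 0, 0, 1, 1, 0]), (22, 3, 1, [0, 1, 1, 0, 1, 1]), (22, 1, 3, [0, 1, 0, 1, 1, 0]), (22, 0, 2, [0, 1, 1,
    1, 1, 0]), (23, 3, 1, [0, 1, 1, 0, 1, 0]), (23, 1, 3, [0, 1, 0, 1, 1, 1])])]

/-- all checks -/
theorem hXr : (List.range 6).all (fun i => eqw4 (Wd.rep (X.getD i []) 2) []) = true := by decide +kernel

theorem hXc : (List.range 6).all (fun i => (List.range i).all fun j =>
    eqw4 (X.getD i [] ++ X.getD j []) (X.getD j [] ++ X.getD i [])) = true := by decide +kernel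

theorem hA : (List.range 2).all (fun k => (List.range 6).all fun i =>
    eqw4 (G.getD k [] ++ X.getD i []) (Wd.pvW X 0 ((B.getD k []).getD i []) ++ G.getD k [])) = true := by decide +kernel

theorem hO : chkO 2 6 63 (B ++ Bi) [1, 0, 0, 0, 0, 0] Ls = true := by decide +kernel

theorem hne : (!(Nat.beq (ev4 (Wd.pvW X 0 [1, 0, 0, 0, 0, 0]) 0) 0)) = true := by decide +kernel

theorem orb : Orb 2 63 RuOrder.H := by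
  refine orb_bfs wd4 (r := 2) (d := 6) (X := X) (G := G) (B := B) (Bi := Bi) (c₀ := [1, 0, 0, 0, 0, 0]) (Ls := Ls)
    (by norm_num) (by norm_num) rfl ?_ ?_ hne (by decide +kernel) ?_ (by decide +kernel) hO
  · intro i hi
    exact List.all_eq_true.1 hXr i (List.mem_range.2 hi)
  · intro i hi j hj
    exact List.all_eq_true.1 (List.all_eq_true.1 hXc i (List.mem_range.2 hi)) j (List.mem_range.2 hj)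
  · intro k hk i hi
    exact List.all_eq_true.1 (List.all_eq_true.1 hA k (List.mem_range.2 hk)) i (List.mem_range.2 hi)

theorem orb' : Orb 2 63 Cfsg.Spor.Ru := orb.of_equiv' RuLat.Main.equiv

theorem hs : IsSimpleGroup Cfsg.Spor.Ru := Cfsg.Agent.RuLat.Main.main.2.2

theorem md : H954.OutDeg.MD Cfsg.Spor.Ru 63 :=
  haveI := hs
  md_of_orb (by norm_num) orb'

end Cfsg.Agent.H489.Cyc.RuG
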