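import Mathlib
import Cfsg.Agent.H489.Cyc.Base
import Cfsg.Agent.H489.Cyc.RuDeg
import Cfsg.Agent.H436.TwoRu
import Cfsg.Agent.H805.NilRu
import Cfsg.Agent.H47.Meet3Ru
import Cfsg.Agent.H51.RuOdd
import Cfsg.Agent.H148.Ru.CentSeven
import Cfsg.Agent.S2077

/-!
# TEAM TWOCYC (S3507): the Rudvalis group (helper489)
-/

set_option autoImplicit false
set_option maxRecDepth 100000

universe u

namespace Cfsg.Agent.H489.Cyc.RuG

open Subgroup Cfsg Cfsg.Agent.H384.Cyc Cfsg.Agent.H954.OutDeg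
open Cfsg.Agent.RuB Cfsg.Agent.RuB.Core Cfsg.Agent.RuB.Count Cfsg.Agent.RuB.NormQ Cfsg.Agent.RuB.NormZ
open Cfsg.Agent.RuB.GLThree Cfsg.Agent.Ru127.Form Cfsg.Agent.KFacts.Ru
open Cfsg.Agent.SporadicB
open Cfsg.Agent.H19.Odd
open scoped commutatorElement

/-! ### general tools -/

/-- the order divides the order of the centralizer of a power -/
theorem dvd_cent {G : Type*} [Group G] [Finite G] {x : G} {p : ℕ} (h : p ∣ orderOf x) :
    ∃ y : G, orderOf y = p ∧ (∃ k : ℕ, y = x ^ k) ∧ orderOf x ∣ Nat.card ↥(centralizer ({y} : Set G)) := by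
  obtain ⟨k, hk⟩ := h
  have hx := orderOf_pos x
  have hk0 : k ≠ 0 := by
    rintro rfl
    omega
  have ho : orderOf (x ^ k) = p := by
    rw [orderOf_pow' _ hk0, hk, Nat.gcd_eq_right (Dvd.intro_left _ rfl), Nat.mul_div_cancel _ (Nat.pos_of_ne_zero hk0)]
  refine ⟨x ^ k, ho, ⟨k, rfl⟩, ?_⟩
  have h2 : x ∈ centralizer ({x ^ k} : Set G) := by
    rw [mem_centralizer_singleton_iff, ← pow_succ, ← pow_succ']
  have h3 := orderOf_dvd_natCard (⟨x, h2⟩ : centralizer ({x ^ k} : Set G))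
  rwa [Subgroup.orderOf_mk] at h3

/-- the Sylow subgroup is extraspecial of exponent `p` -/
theorem not_sq_of_extra {G : Type*} [Group G] [Finite G] {p : ℕ} (hp : p.Prime) (hp2 : p ≠ 2) {a b : G}
    (hcx : ⁅a, b⁆ * a = a * ⁅a, b⁆) (hcy : ⁅a, b⁆ * b = b * ⁅a, b⁆) (hne : ⁅a, b⁆ ≠ 1) (ha : a ^ p = 1)
    (hb : b ^ p = 1) (hG : ¬ p ^ 4 ∣ Nat.card G) (x : G) : ¬ p ^ 2 ∣ orderOf x := by
  have : Fact p.Prime := ⟨hp⟩
  have hcx' : Commute ⁅a, b⁆ a := hcx
  have hcy' : Commute ⁅a, b⁆ b := hcy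
  have hab : a * b = b * a * ⁅a, b⁆ ^ 1 := by
    rw [pow_one, mul_assoc, ← hcx, ← mul_assoc, ← hcy, commutatorElement_def]
    group
  have hc7 : ⁅a, b⁆ ^ p = 1 := by
    have h1 : a * b * a⁻¹ = ⁅a, b⁆ * b := by
      rw [commutatorElement_def]; group
    have h2 : (a * b * a⁻¹) ^ p = a * b ^ p * a⁻¹ := conj_pow
    rw [h1, hcy'.mul_pow, hb] at h2
    simpa using h2
  have h1p : ¬ p ∣ 1 := fun h => hp.one_lt.ne' (Nat.dvd_one.1 h)
  exact not_dvd_of_exp (e := 1) (n := 3) (p := p) hp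
    (Heis.isPGroup_P hc7 ha hb hcx' hcy' hab)
    (Nat.le_of_dvd Nat.card_pos (Heis.card_P_dvd hc7 ha hb hcx' hcy' hab h1p hne))
    hG (fun g hg => by
      rw [pow_one]
      exact heis_pow hp hp2 hc7 ha hb hcx' hcy' hab hg) x

/-! ### The normaliser of `Z` -/

theorem chk_codes : ((List.range 512).all fun p => !(good p) || (Nat.beq (cp p (cp p p)) 273 ||
    Nat.beq (cp p (cp p (cp p p))) 273 || Nat.beq (cp p (cp p (cp p (cp p (cp p (cp p p)))))) 273)) = true := by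
  decide +kernel

theorem cod_id : cod (id : K8 → K8) = 273 := by decide +kernel

theorem add_id : NormQ.Add (id : K8 → K8) := fun _ _ => rfl

theorem nor_pow {G : Type*} [Group G] [Finite G] (C : Core G) {g : G} (hg : g ∈ nor (Zs C)) :
    g ^ 12 = 1 ∨ g ^ 16 = 1 ∨ g ^ 28 = 1 := by
  obtain ⟨K, hν, hμ, -, hcz⟩ := Cfsg.Agent.Ru127.Sg.exists_localData C
  obtain ⟨r, hr⟩ := exists_ind hg
  have hA := hr.add
  have h4 : ∀ x ∈ C.QQ, x ^ 4 = 1 := by
    intro x hx
    rw [show (4 : ℕ) = 2 * 2 by norm_num, pow_mul, pow_two, pow_two, K.sq x hx, C.z_sq]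
  have key : ∀ (n : ℕ) (s : K8 → K8), Ind C (g ^ n) s → NormQ.Add s → cod s = 273 → g ^ (4 * n) = 1 := by
    intro n s hs hsA hc
    have h1 : s = id := cod_inj hsA add_id (by rw [hc, cod_id])
    subst h1
    have h2 := hcz _ (ind_one_iff.1 hs)
    have h3 := h4 _ h2
    rw [← h3, ← pow_mul, mul_comm]
  have h1 := List.all_eq_true.1 chk_codes (cod r) (List.mem_range.2 (cod_lt r))
  rw [good_cod hA (fun x hx => hr.zero hx)] at h1
  simp only [Bool.not_true, Bool.false_or, Bool.or_eq_true] at h1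
  rcases h1 with (h | h) | h
  · left
    have h := Nat.eq_of_beq_eq_true h
    refine key 3 (r ∘ (r ∘ r)) ?_ (hA.comp (hA.comp hA)) (by rw [cod_comp hA, cod_comp hA, h])
    have h2 := hr.comp (hr.comp hr)
    have e : g * (g * g) = g ^ 3 := by simp only [pow_succ, pow_zero, one_mul, mul_assoc]
    rwa [e] at h2
  · right; left
    have h := Nat.eq_of_beq_eq_true h
    refine key 4 (r ∘ (r ∘ (r ∘ r))) ?_ (hA.comp (hA.comp (hA.comp hA)))
      (by rw [cod_comp hA, cod_comp hA, cod_comp hA, h])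
    have h2 := hr.comp (hr.comp (hr.comp hr))
    have e : g * (g * (g * g)) = g ^ 4 := by simp only [pow_succ, pow_zero, one_mul, mul_assoc]
    rwa [e] at h2
  · right; right
    have h := Nat.eq_of_beq_eq_true h
    refine key 7 (r ∘ (r ∘ (r ∘ (r ∘ (r ∘ (r ∘ r)))))) ?_
      (hA.comp (hA.comp (hA.comp (hA.comp (hA.comp (hA.comp hA))))))
      (by rw [cod_comp hA, cod_comp hA, cod_comp hA, cod_comp hA, cod_comp hA, cod_comp hA, h])
    have h2 := hr.comp (hr.comp (hr.comp (hr.comp (hr.comp (hr.comp hr)))))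
    have e : g * (g * (g * (g * (g * (g * g))))) = g ^ 7 := by
      simp only [pow_succ, pow_zero, one_mul, mul_assoc]
    rwa [e] at h2

theorem card : Nat.card RuOrder.H = 145926144000 := RuOrder.card_H

theorem fin : Finite RuOrder.H := H436.TwoRu.finite_H

/-- no element of order 32 -/
theorem not_32 (x : RuOrder.H) : ¬ 32 ∣ orderOf x := by
  have := fin
  have h2 : Fact (Nat.Prime 2) := ⟨Nat.prime_two⟩
  obtain ⟨C, -⟩ := KFacts.Ru.exists_core H436.TwoRu.isoH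
  obtain ⟨K, hν, hμ, L, hcz⟩ := Cfsg.Agent.Ru127.Sg.exists_localData C
  have hc := L.norm_card _ Local.Zs_mem_ZZ
  obtain ⟨Q, hQ⟩ := Sylow.exists_subgroup_card_pow_prime (G := nor (Zs C)) 2 (n := 14)
    (by rw [hc]; exact Dvd.intro _ rfl)
  have hP : Nat.card (Q.map (nor (Zs C)).subtype) = 2 ^ 14 := by
    rw [← hQ]
    exact Nat.card_congr (Subgroup.equivMapOfInjective Q _ (Subgroup.subtype_injective _)).symm.toEquiv
  have hPp : IsPGroup 2 (Q.map (nor (Zs C)).subtype) := IsPGroup.of_card hP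
  refine not_dvd_of_exp (e := 4) (n := 14) Nat.prime_two hPp hP.ge (by rw [card]; norm_num) ?_ x
  intro g hg
  obtain ⟨k, hk⟩ := IsPGroup.iff_orderOf.1 hPp (⟨g, hg⟩ : (Q.map (nor (Zs C)).subtype))
  rw [Subgroup.orderOf_mk] at hk
  have hgn : g ∈ nor (Zs C) := by
    obtain ⟨q, -, rfl⟩ := hg
    exact q.2
  rw [← orderOf_dvd_iff_pow_eq_one, hk]
  rcases nor_pow C hgn with h | h | h
  · have h1 := orderOf_dvd_of_pow_eq_one h
    rw [hk] at h1
    have h3 : 2 ^ k ∣ 4 := Nat.Coprime.dvd_of_dvd_mul_right (Nat.Coprime.pow_left k (by norm_num : Nat.Coprime 2 3))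
      (by simpa using h1)
    exact h3.trans (by norm_num)
  · have h1 := orderOf_dvd_of_pow_eq_one h
    rw [hk] at h1
    exact h1
  · have h1 := orderOf_dvd_of_pow_eq_one h
    rw [hk] at h1
    have h3 : 2 ^ k ∣ 4 := Nat.Coprime.dvd_of_dvd_mul_right (Nat.Coprime.pow_left k (by norm_num : Nat.Coprime 2 7))
      (by simpa using h1)
    exact h3.trans (by norm_num)

open Cfsg.Agent.H51.RuOdd Cfsg.Agent.KFacts.RuDbl.Four in
theorem not_sq_of_chk {p : ℕ} (hp : p.Prime) (hp2 : p ≠ 2) {x y : List ℕ} (h : Chk p x y)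
    (hcard : ¬ p ^ 4 ∣ Nat.card RuOrder.H) (g : RuOrder.H) : ¬ p ^ 2 ∣ orderOf g := by
  have := fin
  have hx := inv_of h.xi
  have hy := inv_of h.yi
  have hc : ⁅W4 x, W4 y⁆ = W4 (cw x y) := by
    rw [cw, W4_append, W4_append, W4_append, ← hx, ← hy, commutatorElement_def]
  have hcx : ⁅W4 x, W4 y⁆ * W4 x = W4 x * ⁅W4 x, W4 y⁆ := by
    rw [hc, ← W4_append, ← W4_append]; exact eqw4_sound h.cx
  have hcy : ⁅W4 x, W4 y⁆ * W4 y = W4 y * ⁅W4 x, W4 y⁆ := by
    rw [hc, ← W4_append, ← W4_append]; exact eqw4_sound h.cy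
  have hc1 : ⁅W4 x, W4 y⁆ ≠ 1 := by
    obtain ⟨b, hb⟩ := h.ne
    rw [hc]; exact ne_one b hb
  exact not_sq_of_extra hp hp2 hcx hcy hc1 (pow_of h.xp) (pow_of h.yp) hcard g

theorem not_nine (x : RuOrder.H) : ¬ 9 ∣ orderOf x :=
  not_sq_of_chk Nat.prime_three (by norm_num) H51.RuOdd.chk3 (by rw [card]; norm_num) x

theorem not_25 (x : RuOrder.H) : ¬ 25 ∣ orderOf x :=
  not_sq_of_chk (p := 5) (by norm_num) (by norm_num) H51.RuOdd.chk5 (by rw [card]; norm_num) x

/-- an element of order divisible by 3 and by 2 -/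
theorem six {x : RuOrder.H} (h2 : 2 ∣ orderOf x) (h3 : 3 ∣ orderOf x) : orderOf x ∣ 96 := by
  have := fin
  obtain ⟨C, -, hL⟩ := Cfsg.Agent.CTwoTab.Ru.exists_core_sz H436.TwoRu.isoH
  obtain ⟨t, ht, ⟨i, rfl⟩, -⟩ := dvd_cent h2
  obtain ⟨y, hy, ⟨j, rfl⟩, -⟩ := dvd_cent h3
  have ht2 : x ^ i * x ^ i = 1 := by rw [← pow_two, ← ht]; exact pow_orderOf_eq_one _
  have ht1 : x ^ i ≠ 1 := by
    intro h
    rw [h, orderOf_one] at ht
    norm_num at ht
  have hcomm : Commute (x ^ j) (x ^ i) := (Commute.refl x).pow_pow j i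
  -- the centralizers
  have key : ∀ g : RuOrder.H, g * C.z 1 * g⁻¹ = x ^ i →
      Nat.card ↥(centralizer ({x ^ i} : Set RuOrder.H) ⊓ centralizer ({x ^ j} : Set RuOrder.H)) ∣ 96 := by
    intro g hg
    obtain ⟨K, hν, hμ, L, hcz⟩ := Cfsg.Agent.Ru127.Sg.exists_localData C
    have hz1 : C.z 1 ≠ 1 := fun h => one_ne_zero (C.z_eq_one h)
    have h5 := InvC.card_sig C _ Local.Zs_mem_ZZ _ (z_mem_Zs 1) hz1
    have ho : orderOf (g⁻¹ * x ^ j * g) = 3 := by
      have h6 := MulEquiv.orderOf_eq (MulAut.conj g⁻¹) (x ^ j)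
      rwa [MulAut.conj_apply, inv_inv, hy] at h6
    have hcm : Commute (g⁻¹ * x ^ j * g) (C.z 1) := by
      have e : C.z 1 = g⁻¹ * x ^ i * g := by rw [← hg]; group
      rw [e]
      change _ * _ = _ * _
      calc g⁻¹ * x ^ j * g * (g⁻¹ * x ^ i * g) = g⁻¹ * (x ^ j * x ^ i) * g := by group
        _ = g⁻¹ * (x ^ i * x ^ j) * g := by rw [hcomm.eq]
        _ = _ := by group
    have h7 := BpSpor.RuThree.card_dvd L hz1 h5 ho hcm
    have h8 := (CpAutRuFive.card_conj g (C.z 1) (g⁻¹ * x ^ j * g)).2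
    have e : g * (g⁻¹ * x ^ j * g) * g⁻¹ = x ^ j := by group
    rw [e, hg] at h8
    rw [h8]
    exact h7
  have hcard : Nat.card ↥(centralizer ({x ^ i} : Set RuOrder.H) ⊓ centralizer ({x ^ j} : Set RuOrder.H)) ∣ 96 := by
    rcases InvC.invol_cases C ht2 ht1 with ⟨g, hg⟩ | ⟨g, a, ha, hg⟩
    · exact key g hg
    · exfalso
      have hB := (H47.MeetS.RuThree.bd_v C hL ha).conj (isConj_iff.2 ⟨g, hg⟩)
      -- no element of order 3 commutes with `v`
      have ho : orderOf (g⁻¹ * x ^ j * g) = 3 := by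
        have h6 := MulEquiv.orderOf_eq (MulAut.conj g⁻¹) (x ^ j)
        rwa [MulAut.conj_apply, inv_inv, hy] at h6
      have hcm : (g⁻¹ * x ^ j * g) * C.v a = C.v a * (g⁻¹ * x ^ j * g) := by
        have e : C.v a = g⁻¹ * x ^ i * g := by rw [← hg]; group
        rw [e]
        calc g⁻¹ * x ^ j * g * (g⁻¹ * x ^ i * g) = g⁻¹ * (x ^ j * x ^ i) * g := by group
          _ = g⁻¹ * (x ^ i * x ^ j) * g := by rw [hcomm.eq]
          _ = _ := by group
      have h7 := RuB.Local.card_cent_v (C := C) ha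
      have h8 := orderOf_dvd_natCard (⟨g⁻¹ * x ^ j * g, mem_centralizer_singleton_iff.2 hcm⟩ :
        ↥(centralizer ({C.v a} : Set RuOrder.H)))
      rw [Subgroup.orderOf_mk, ho, h7] at h8
      norm_num at h8
  have hx : x ∈ centralizer ({x ^ i} : Set RuOrder.H) ⊓ centralizer ({x ^ j} : Set RuOrder.H) :=
    ⟨mem_centralizer_singleton_iff.2 (by rw [← pow_succ, ← pow_succ']),
      mem_centralizer_singleton_iff.2 (by rw [← pow_succ, ← pow_succ'])⟩
  have h9 := orderOf_dvd_natCard (⟨x, hx⟩ :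
    ↥(centralizer ({x ^ i} : Set RuOrder.H) ⊓ centralizer ({x ^ j} : Set RuOrder.H)))
  rw [Subgroup.orderOf_mk] at h9
  exact h9.trans hcard

theorem seven {x : RuOrder.H} (h7 : 7 ∣ orderOf x) : orderOf x ≤ 28 := by
  have := fin
  obtain ⟨y, hy, -, h⟩ := dvd_cent h7
  rw [H436.TwoRu.card_eq_of (by norm_num) (by norm_num) hy H148.Ru.orderC, H436.TwoRu.cen_eq] at h
  exact (Nat.le_of_dvd Nat.card_pos h).trans H148.Ru.card_C

theorem orderOf_le' (x : RuOrder.H) : orderOf x ≤ 94 := by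
  have := fin
  by_cases h29 : 29 ∣ orderOf x
  · obtain ⟨y, hy, -, h⟩ := dvd_cent h29
    exact (Nat.le_of_dvd (by norm_num) (h.trans (H436.TwoRu.cent29 y hy))).trans (by norm_num)
  by_cases h13 : 13 ∣ orderOf x
  · obtain ⟨y, hy, -, h⟩ := dvd_cent h13
    exact (Nat.le_of_dvd (by norm_num) (h.trans (H436.TwoRu.cent13 y hy))).trans (by norm_num)
  by_cases h7 : 7 ∣ orderOf x
  · exact (seven h7).trans (by norm_num)
  by_cases h6 : 2 ∣ orderOf x ∧ 3 ∣ orderOf x
  · have h := six h6.1 h6.2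
    have h32 := not_32 x
    have h1 : orderOf x ∈ Nat.divisors 96 := Nat.mem_divisors.2 ⟨h, by norm_num⟩
    have h2 : Nat.divisors 96 = {1, 2, 3, 4, 6, 8, 12, 16, 24, 32, 48, 96} := by decide +kernel
    rw [h2] at h1
    simp only [Finset.mem_insert, Finset.mem_singleton] at h1
    rcases h1 with h | h | h | h | h | h | h | h | h | h | h | h
    all_goals first
      | (rw [h]; norm_num; done)
      | (exfalso; rw [h] at h32; norm_num at h32)
  · have h1 := dvd_of_list (N := orderOf x) (M := 145926144000)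
      [(2, 14, 4), (3, 3, 1), (5, 3, 1), (7, 1, 0), (13, 1, 0), (29, 1, 0)]
      (by norm_num) (by simp; norm_num) (card ▸ orderOf_dvd_natCard x) (by
        simp only [List.mem_cons, List.not_mem_nil, or_false, forall_eq_or_imp, forall_eq]
        exact ⟨not_32 x, not_nine x, not_25 x, h7, h13, h29⟩)
    have h2 : orderOf x ∣ 240 := by simpa using h1
    have h3 : orderOf x ∈ Nat.divisors 240 := Nat.mem_divisors.2 ⟨h2, by norm_num⟩
    have h4 : Nat.divisors 240 = {1, 2, 3, 4, 5, 6, 8, 10, 12, 15, 16, 20, 24, 30, 40, 48, 60, 80, 120, 240} := by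
      decide +kernel
    rw [h4] at h3
    simp only [Finset.mem_insert, Finset.mem_singleton] at h3
    rcases h3 with h | h | h | h | h | h | h | h | h | h | h | h | h | h | h | h | h | h | h | h
    all_goals first
      | (rw [h]; norm_num; done)
      | (exfalso; exact h6 ⟨by rw [h]; norm_num, by rw [h]; norm_num⟩)

theorem orderOf_le (x : Cfsg.Spor.Ru) : orderOf x ≤ 94 := by
  have h := orderOf_le' (RuLat.Main.equiv x)
  rwa [MulEquiv.orderOf_eq] at h

theorem card' : Nat.card Cfsg.Spor.Ru = 145926144000 := RuLat.Main.main.2.1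

theorem mo : Mo Cfsg.Spor.Ru 94 := by
  have hfin : Finite Cfsg.Spor.Ru := Nat.finite_of_card_ne_zero (by rw [card']; norm_num)
  exact mo_of_out (c := 1) (m := 94) S2077.result.le orderOf_le

/-- **The Rudvalis group.** -/
theorem smC {T : Type u} [Group T] (h : Spor.IsoRu T) : SmC T := by
  obtain ⟨e⟩ := h
  exact SmC.congr ⟨94, 63, mo, md, by norm_num⟩ e.symm

theorem ord {T : Type u} [Group T] (h : Spor.IsoRu T) : H384.Cyc.Ord T := by
  obtain ⟨e⟩ := h
  exact H384.Cyc.Ord.congr ⟨94, mo, by rw [card']; norm_num⟩ e.symm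

end Cfsg.Agent.H489.Cyc.RuG
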