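import Cfsg.Agent.H921.SporGen

/-!
# Orbits on the dual of an elementary abelian subgroup by a certificate (helper489)

`Orb.of_orbits`: elements `g k` normalising `⟨x i⟩`, acting by the matrices `B k`; the number of functionals reachable from
a functional. `chkT`: a tree of functionals with both directions of each edge checked.
-/

set_option autoImplicit false

universe v

namespace Cfsg.Agent.H489.Cyc

open Cfsg.Agent.H921.Spor

variable {r : ℕ} {T : Type v} [Group T]

/-- image of a functional under a matrix -/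
def stp (r : ℕ) (B : List (List ℕ)) (y : List ℕ) : List ℕ := B.map fun row => dot y row % r

/-- reachability under the matrices -/
inductive Reach (r : ℕ) (B : List (List (List ℕ))) (χ : List ℕ) : List ℕ → Prop
  | refl : Reach r B χ χ
  | step {y : List ℕ} (k : ℕ) (hk : k < B.length) : Reach r B χ y → Reach r B χ (stp r (B.getD k []) y)

theorem Reach.trans {B : List (List (List ℕ))} {a b c : List ℕ} (h1 : Reach r B a b) (h2 : Reach r B b c) :
    Reach r B a c := by
  induction h2 with
  | refl => exact h1
  | step k hk _ ih => exact ih.step k hk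

theorem Orb.of_orbits (hr : r.Prime) (d m : ℕ) (x g : ℕ → T) (hx : ∀ i, x i ^ r = 1) (hxd : ∀ i, d ≤ i → x i = 1)
    (hc : ∀ i j, x i * x j = x j * x i) (c₀ : List ℕ) (h₀ : pv x 0 c₀ ≠ 1)
    (B : List (List (List ℕ))) (hB : ∀ k < B.length, (B.getD k []).length = d)
    (hg : ∀ k < B.length, ∀ i < d, g k * x i * (g k)⁻¹ = pv x 0 ((B.getD k []).getD i []))
    (hd : ∀ χ : List ℕ, χ.length = d → (∀ a ∈ χ, a < r) → dot χ c₀ % r ≠ 0 →
      ∃ I : Finset (List ℕ), m ≤ I.card ∧ ∀ y ∈ I, Reach r B χ y) : Orb r m T := by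
  classical
  have : Fact r.Prime := ⟨hr⟩
  set E : Subgroup T := Subgroup.closure (Set.range x) with hEdef
  have hxE : ∀ i, x i ∈ E := fun i => Subgroup.subset_closure ⟨i, rfl⟩
  have hE : ∀ u ∈ E, ∀ v ∈ E, u * v = v * u := by
    have hcomm : ∀ u ∈ Set.range x, ∀ v ∈ Set.range x, u * v = v * u := by
      rintro _ ⟨i, rfl⟩ _ ⟨j, rfl⟩
      exact hc i j
    intro u hu v hv
    have h1 : IsMulCommutative E := Subgroup.isMulCommutative_closure hcomm
    exact congrArg Subtype.val (h1.is_comm.comm (⟨u, hu⟩ : E) ⟨v, hv⟩)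
  have hpow : ∀ u ∈ E, u ^ r = 1 := by
    intro u hu
    induction hu using Subgroup.closure_induction with
    | mem y hy =>
      obtain ⟨i, rfl⟩ := hy
      exact hx i
    | one => simp
    | mul y z hy hz h1 h2 =>
      have : Commute y z := hE y hy z hz
      rw [this.mul_pow, h1, h2, one_mul]
    | inv y hy h1 => rw [inv_pow, h1, inv_one]
  have hfinr : (Set.range x).Finite := by
    apply ((Set.finite_range (fun k : Fin d => x k)).union (Set.finite_singleton (1 : T))).subset
    rintro _ ⟨i, rfl⟩
    by_cases hi : i < d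
    · exact Or.inl ⟨⟨i, hi⟩, rfl⟩
    · exact Or.inr (hxd i (by omega))
  have hfin : Finite E := by
    have h2 : Group.FG E := by
      rw [Group.fg_iff_subgroup_fg]
      exact ⟨hfinr.toFinset, by rw [hEdef, Set.Finite.coe_toFinset]⟩
    let _ : CommGroup E := { (inferInstance : Group E) with mul_comm := fun u v => Subtype.ext (hE u u.2 v v.2) }
    have h3 : IsMulTorsion E := by
      intro u
      rw [isOfFinOrder_iff_pow_eq_one]
      exact ⟨r, hr.pos, Subtype.ext (hpow u u.2)⟩
    exact CommGroup.finite_of_fg_isMulTorsion E h3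
  have hpvE : ∀ (l : List ℕ) (i : ℕ), pv x i l ∈ E := by
    intro l
    induction l with
    | nil => intro i; exact E.one_mem
    | cons a l ih => intro i; exact E.mul_mem (E.pow_mem (hxE i) a) (ih _)
  have hpv1 : ∀ (l : List ℕ) (i : ℕ), d ≤ i → pv x i l = 1 := by
    intro l
    induction l with
    | nil => intro i _; rfl
    | cons a l ih =>
      intro i hi
      change x i ^ a * pv x (i + 1) l = 1
      rw [hxd i hi, ih (i + 1) (by omega), one_pow, one_mul]
  -- the `g k` normalise `E`
  have hnorm : ∀ k < B.length, ∀ e ∈ E, g k * e * (g k)⁻¹ ∈ E := by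
    intro k hk e he
    induction he using Subgroup.closure_induction with
    | mem y hy =>
      obtain ⟨i, rfl⟩ := hy
      by_cases hi : i < d
      · rw [hg k hk i hi]; exact hpvE _ _
      · rw [hxd i (by omega)]; simp
    | one => simp
    | mul y z hy hz h1 h2 =>
      have := E.mul_mem h1 h2
      convert this using 1
      group
    | inv y hy h1 =>
      have := E.inv_mem h1
      convert this using 1
      group
  refine ⟨E, pv x 0 c₀, 1, hfin, hE, by simpa using hpow, hpvE _ _, h₀, ?_⟩
  rw [pow_one]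
  have hrpos : NeZero r := ⟨hr.pos.ne'⟩
  -- values of additive functions
  have hdot : ∀ f : T → ZMod r, (∀ a ∈ E, ∀ b ∈ E, f (a * b) = f a + f b) → ∀ (l : List ℕ) (i n : ℕ), i + n = d →
      f (pv x i l) = (dot (vals (fun i => (f (x i)).val) i n) l : ℕ) := by
    intro f hf
    have hf1 : f 1 = 0 := by
      have := hf 1 E.one_mem 1 E.one_mem
      rw [mul_one] at this
      exact left_eq_add.1 this
    have hfpow : ∀ e ∈ E, ∀ a : ℕ, f (e ^ a) = a * f e := by
      intro e he a
      induction a with
      | zero => rw [pow_zero, hf1]; simp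
      | succ a ih =>
        rw [pow_succ, hf _ (E.pow_mem he a) _ he, ih]
        push_cast
        ring
    intro l
    induction l with
    | nil =>
      intro i n _
      change f 1 = _
      rw [hf1]
      cases n <;> simp [vals, dot]
    | cons a l ih =>
      intro i n hin
      cases n with
      | zero =>
        rw [hpv1 _ i (by omega), hf1]
        simp [vals, dot]
      | succ n =>
        change f (x i ^ a * pv x (i + 1) l) = _
        rw [hf _ (E.pow_mem (hxE i) a) _ (hpvE _ _), hfpow _ (hxE i), ih (i + 1) n (by omega)]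
        simp only [vals, dot]
        push_cast
        rw [ZMod.natCast_zmod_val]
        ring
  intro f hf hf0
  set χ : List ℕ := vals (fun i => (f (x i)).val) 0 d with hχ
  have hχl : χ.length = d := length_vals _ 0 d
  have hχr : ∀ a ∈ χ, a < r := lt_of_mem_vals (fun i => ZMod.val_lt _) 0 d
  have hχ0 : dot χ c₀ % r ≠ 0 := by
    intro h
    apply hf0
    rw [hdot f hf c₀ 0 d (by omega), ZMod.natCast_eq_zero_iff]
    exact Nat.dvd_of_mod_eq_zero h
  obtain ⟨I, hI, hIR⟩ := hd χ hχl hχr hχ0
  -- functionals which can be reached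
  have key : ∀ y, Reach r B χ y → ∃ s : T, (∀ e ∈ E, s * e * s⁻¹ ∈ E) ∧ y = vals (fun i => (f (s * x i * s⁻¹)).val) 0 d := by
    intro y hy
    induction hy with
    | refl => exact ⟨1, fun e he => by simpa using he, by rw [hχ]; simp⟩
    | step k hk _ ih =>
      obtain ⟨s, hs, rfl⟩ := ih
      refine ⟨s * g k, fun e he => ?_, ?_⟩
      · have h1 := hs _ (hnorm k hk e he)
        convert h1 using 1
        group
      · have hf' : ∀ a ∈ E, ∀ b ∈ E, f (s * (a * b) * s⁻¹) = f (s * a * s⁻¹) + f (s * b * s⁻¹) := by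
          intro a ha b hb
          rw [← hf _ (hs a ha) _ (hs b hb)]
          congr 1
          group
        have h2 := hdot (fun t => f (s * t * s⁻¹)) hf'
        have h3 : ∀ (n i : ℕ), i + n = d → ∀ (l : List (List ℕ)), (B.getD k []).drop i = l →
            stp r l (vals (fun i => (f (s * x i * s⁻¹)).val) 0 d) =
              vals (fun i => (f (s * g k * x i * (s * g k)⁻¹)).val) i n := by
          intro n
          induction n with
          | zero =>
            intro i hi l hl
            rw [List.drop_eq_nil_of_le (by rw [hB k hk]; omega)] at hl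
            rw [← hl]
            rfl
          | succ n ih =>
            intro i hi l hl
            have hi' : i < (B.getD k []).length := by rw [hB k hk]; omega
            rw [List.drop_eq_getElem_cons hi'] at hl
            rw [← hl]
            change (dot _ ((B.getD k [])[i]) % r) :: stp r ((B.getD k []).drop (i + 1)) _ = _ :: vals _ (i + 1) n
            rw [ih (i + 1) (by omega) _ rfl]
            congr 1
            have h4 : s * g k * x i * (s * g k)⁻¹ = s * (g k * x i * (g k)⁻¹) * s⁻¹ := by group
            change dot _ _ % r = (f (s * g k * x i * (s * g k)⁻¹)).val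
            rw [h4, hg k hk i (by omega), h2 _ 0 d (by omega), ZMod.val_natCast]
            congr 2
            rw [List.getD_eq_getElem _ _ hi']
        exact h3 d 0 (by omega) _ rfl
  choose! σ hσ1 hσ2 using fun y hy => key y (hIR y hy)
  obtain ⟨I', hI', hI'c⟩ := Finset.exists_subset_card_eq hI
  refine ⟨I'.image σ, ?_, ?_, ?_⟩
  · rw [Finset.card_image_of_injOn, hI'c]
    intro y hy z hz hyz
    rw [hσ2 y (hI' hy), hσ2 z (hI' hz), hyz]
  · intro s hs e he
    obtain ⟨y, hy, rfl⟩ := Finset.mem_image.1 hs
    exact hσ1 y (hI' hy) e he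
  · intro s hs t ht hst
    obtain ⟨y, hy, rfl⟩ := Finset.mem_image.1 hs
    obtain ⟨z, hz, rfl⟩ := Finset.mem_image.1 ht
    by_contra hcon
    push Not at hcon
    apply hst
    have h1 : y = z := by
      rw [hσ2 y (hI' hy), hσ2 z (hI' hz)]
      congr 1
      funext i
      rw [hcon (x i) (hxE i)]
    rw [h1]

/-! ### Certificates -/

/-- comparison of vectors -/
def veq : List ℕ → List ℕ → Bool
  | [], [] => true
  | a :: l, b :: m => Nat.beq a b && veq l m
  | _, _ => false

theorem veq_sound : ∀ {u v : List ℕ}, veq u v = true → u = v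
  | [], [], _ => rfl
  | a :: l, b :: m, h => by
    unfold veq at h
    rw [Bool.and_eq_true] at h
    rw [Nat.eq_of_beq_eq_true h.1, veq_sound h.2]

theorem veq_refl : ∀ u : List ℕ, veq u u = true
  | [] => rfl
  | a :: l => by
    unfold veq
    rw [Bool.and_eq_true]
    exact ⟨Nat.beq_refl a, veq_refl l⟩

/-- membership -/
def vmem (v : List ℕ) (L : List (List ℕ)) : Bool := L.any fun u => veq u v

theorem vmem_sound {v : List ℕ} {L : List (List ℕ)} (h : vmem v L = true) : v ∈ L := by
  unfold vmem at h
  rw [List.any_eq_true] at h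
  obtain ⟨u, hu, h1⟩ := h
  rw [← veq_sound h1]
  exact hu

/-- no repetitions -/
def nodupV : List (List ℕ) → Bool
  | [] => true
  | v :: L => !(vmem v L) && nodupV L

theorem nodupV_sound : ∀ {L : List (List ℕ)}, nodupV L = true → L.Nodup
  | [], _ => List.nodup_nil
  | v :: L, h => by
    unfold nodupV at h
    rw [Bool.and_eq_true] at h
    refine List.nodup_cons.2 ⟨fun h1 => ?_, nodupV_sound h.2⟩
    have h2 : vmem v L = true := by
      unfold vmem
      rw [List.any_eq_true]
      exact ⟨v, h1, veq_refl v⟩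
    rw [h2] at h
    exact absurd h.1 (by decide)

/-- A tree: `(p, k, l, v)` is the vector `v`, obtained by `B k` from the `p`-th last vector and leading back to it by
`B l`. -/
def chkT (r : ℕ) (B : List (List (List ℕ))) : List (List ℕ) → List (ℕ × ℕ × ℕ × List ℕ) → Bool
  | _, [] => true
  | acc, (p, k, l, v) :: L => Nat.blt p acc.length && Nat.blt k B.length && Nat.blt l B.length &&
      veq (stp r (B.getD k []) (acc.getD p [])) v && veq (stp r (B.getD l []) v) (acc.getD p []) &&
      chkT r B (v :: acc) L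

/-- the vectors of a tree -/
def treeV (v : List ℕ) (L : List (ℕ × ℕ × ℕ × List ℕ)) : List (List ℕ) := v :: L.map fun t => t.2.2.2

theorem chkT_sound {B : List (List (List ℕ))} : ∀ (L : List (ℕ × ℕ × ℕ × List ℕ)) (acc : List (List ℕ)),
    chkT r B acc L = true → (∀ a ∈ acc, ∀ b ∈ acc, Reach r B a b) →
    ∀ a, a ∈ acc ∨ a ∈ L.map (fun t => t.2.2.2) → ∀ b, b ∈ acc ∨ b ∈ L.map (fun t => t.2.2.2) → Reach r B a b
  | [], acc, _, h2, a, ha, b, hb => by
    simp only [List.map_nil, List.not_mem_nil, or_false] at ha hb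
    exact h2 a ha b hb
  | (p, k, l, v) :: L, acc, h, h2, a, ha, b, hb => by
    unfold chkT at h
    simp only [Bool.and_eq_true, Nat.blt_eq] at h
    obtain ⟨⟨⟨⟨⟨hp, hk⟩, hl⟩, h3⟩, h4⟩, h5⟩ := h
    have h3 := veq_sound h3
    have h4 := veq_sound h4
    have hpm : acc.getD p [] ∈ acc := by
      rw [List.getD_eq_getElem _ _ hp]
      exact List.getElem_mem hp
    have h6 : Reach r B (acc.getD p []) v := by
      rw [← h3]
      exact Reach.refl.step k hk
    have h7 : Reach r B v (acc.getD p []) := by
      rw [← h4]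
      exact Reach.refl.step l hl
    have h8 : ∀ a ∈ v :: acc, ∀ b ∈ v :: acc, Reach r B a b := by
      intro a ha b hb
      rcases List.mem_cons.1 ha with rfl | ha
      · rcases List.mem_cons.1 hb with rfl | hb
        · exact Reach.refl
        · exact h7.trans (h2 _ hpm b hb)
      · rcases List.mem_cons.1 hb with hb | hb
        · rw [hb]
          exact (h2 a ha _ hpm).trans h6
        · exact h2 a ha b hb
    have key : ∀ c, c ∈ acc ∨ c ∈ ((p, k, l, v) :: L).map (fun t => t.2.2.2) →
        c ∈ v :: acc ∨ c ∈ L.map (fun t => t.2.2.2) := by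
      intro c hc
      rcases hc with hc | hc
      · exact Or.inl (List.mem_cons_of_mem _ hc)
      · rw [List.map_cons] at hc
        rcases List.mem_cons.1 hc with hc | hc
        · exact Or.inl (List.mem_cons.2 (Or.inl hc))
        · exact Or.inr hc
    exact chkT_sound L (v :: acc) h5 h8 a (key a ha) b (key b hb)

/-- All functionals not vanishing on `c₀` lie in trees with at least `m` vectors. -/
def chkO (r d m : ℕ) (B : List (List (List ℕ))) (c₀ : List ℕ) (Ls : List (List ℕ × List (ℕ × ℕ × ℕ × List ℕ))) : Bool :=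
  (Ls.all fun t => chkT r B [t.1] t.2 && nodupV (treeV t.1 t.2) && Nat.ble m (t.2.length + 1)) &&
  ((vecs r d).all fun χ => Nat.beq (dot χ c₀ % r) 0 || Ls.any fun t => vmem χ (treeV t.1 t.2))

theorem chkO_sound {d m : ℕ} {B : List (List (List ℕ))} {c₀ : List ℕ} {Ls : List (List ℕ × List (ℕ × ℕ × ℕ × List ℕ))}
    (h : chkO r d m B c₀ Ls = true) (χ : List ℕ) (h1 : χ.length = d) (h2 : ∀ a ∈ χ, a < r) (h3 : dot χ c₀ % r ≠ 0) :
    ∃ I : Finset (List ℕ), m ≤ I.card ∧ ∀ y ∈ I, Reach r B χ y := by
  classical
  unfold chkO at h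
  rw [Bool.and_eq_true] at h
  have h4 := List.all_eq_true.1 h.2 χ (mem_vecs h1 h2)
  rw [Bool.or_eq_true] at h4
  rcases h4 with h4 | h4
  · exact absurd (Nat.eq_of_beq_eq_true h4) h3
  · obtain ⟨t, ht, h5⟩ := List.any_eq_true.1 h4
    have h6 := List.all_eq_true.1 h.1 t ht
    simp only [Bool.and_eq_true] at h6
    obtain ⟨⟨h7, h8⟩, h9⟩ := h6
    refine ⟨(treeV t.1 t.2).toFinset, ?_, ?_⟩
    · rw [List.toFinset_card_of_nodup (nodupV_sound h8)]
      have := Nat.le_of_ble_eq_true h9
      simpa [treeV] using this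
    · intro y hy
      have hy' := List.mem_toFinset.1 hy
      have hχ := vmem_sound h5
      refine chkT_sound t.2 [t.1] h7 ?_ χ ?_ y ?_
      · intro a ha b hb
        rw [List.mem_singleton] at ha hb
        rw [ha, hb]
        exact Reach.refl
      · rcases List.mem_cons.1 hχ with h | h
        · exact Or.inl (List.mem_singleton.2 h)
        · exact Or.inr h
      · rcases List.mem_cons.1 hy' with h | h
        · exact Or.inl (List.mem_singleton.2 h)
        · exact Or.inr h

/-- shape of a matrix -/
def shp (d : ℕ) (B : List (List ℕ)) : Bool := Nat.beq B.length d && B.all fun row => Nat.beq row.length d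

theorem shp_sound {d : ℕ} {B : List (List ℕ)} (h : shp d B = true) : Shape d B := by
  unfold shp at h
  rw [Bool.and_eq_true] at h
  exact ⟨Nat.eq_of_beq_eq_true h.1, fun b hb => Nat.eq_of_beq_eq_true (List.all_eq_true.1 h.2 b hb)⟩

/-- comparison of matrices -/
def meq : List (List ℕ) → List (List ℕ) → Bool
  | [], [] => true
  | a :: l, b :: m => veq a b && meq l m
  | _, _ => false

theorem meq_sound : ∀ {u v : List (List ℕ)}, meq u v = true → u = v
  | [], [], _ => rfl
  | a :: l, b :: m, h => by
    unfold meq at h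
    rw [Bool.and_eq_true] at h
    rw [veq_sound h.1, meq_sound h.2]

/-- the matrix of the inverse -/
theorem inv_act {x : ℕ → T} (hx : ∀ i, x i ^ r = 1) (hc : ∀ i j, x i * x j = x j * x i) {d : ℕ} (hd : 0 < d)
    {B A : List (List ℕ)} (hB : Shape d B) (hA : Shape d A) (hBA : mmul r d B A = mone d) {g : T}
    (hg : ∀ i < d, g * x i * g⁻¹ = pv x 0 (B.getD i [])) (i : ℕ) (hi : i < d) :
    g⁻¹ * x i * g⁻¹⁻¹ = pv x 0 (A.getD i []) := by
  have h1 := conj_gword (T := T) (r := r) hx hc (d := d) (B := []) (g := fun _ => 1) (by simp) hd (by simp) [] (by simp) i hi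
  have h2 : x i = pv x 0 ((mone d).getD i []) := by
    change 1 * x i * 1⁻¹ = pv x 0 ((mone d).getD i []) at h1
    rw [← h1]; simp
  have hlen : i < A.length := by rw [hA.1]; exact hi
  have h3 : (mone d).getD i [] = lincomb r d (A.getD i []) B := by
    rw [← hBA]
    unfold mmul
    rw [List.getD_eq_getElem _ [] (by rw [List.length_map]; exact hlen), List.getElem_map,
      List.getD_eq_getElem _ [] hlen]
  have h4 : pv x 0 (lincomb r d (A.getD i []) B) = pv (fun j => g * x j * g⁻¹) 0 (A.getD i []) := by
    refine pv_lincomb hx hc d _ _ hB.2 ?_ _ 0 ?_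
    · rw [hB.1, List.getD_eq_getElem _ [] hlen]
      exact hA.2 _ (List.getElem_mem _)
    · intro j hj
      rw [zero_add]
      exact hg j (by rw [← hB.1]; exact hj)
  have h5 : x i = g * pv x 0 (A.getD i []) * g⁻¹ := by
    rw [conj_pv, ← h4, ← h3, ← h2]
  rw [inv_inv]
  conv_lhs => rw [h5]
  group

/-- **The certificate for words.** -/
theorem orb_bfs (w : Wd T) {d m : ℕ} {X G : List (List ℕ)} {B Bi : List (List (List ℕ))} {c₀ : List ℕ}
    {Ls : List (List ℕ × List (ℕ × ℕ × ℕ × List ℕ))} (hr : r.Prime) (hd0 : 0 < d) (hXd : X.length = d)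
    (hXr : ∀ i < d, w.eq (Wd.rep (X.getD i []) r) [] = true)
    (hXc : ∀ i < d, ∀ j < i, w.eq (X.getD i [] ++ X.getD j []) (X.getD j [] ++ X.getD i []) = true)
    (hc₀ : w.ne (Wd.pvW X 0 c₀) = true)
    (hB : (B.all fun b => shp d b) = true)
    (hA : ∀ k < B.length, ∀ i < d, w.eq (G.getD k [] ++ X.getD i [])
      (Wd.pvW X 0 ((B.getD k []).getD i []) ++ G.getD k []) = true)
    (hBi : (Nat.beq Bi.length B.length && (Bi.all fun b => shp d b) &&
      (List.range B.length).all fun k => meq (mmul r d (B.getD k []) (Bi.getD k [])) (mone d)) = true)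
    (hO : chkO r d m (B ++ Bi) c₀ Ls = true) : Orb r m T := by
  rw [Bool.and_eq_true, Bool.and_eq_true] at hBi
  obtain ⟨⟨hl, hBs⟩, hinv⟩ := hBi
  have hl := Nat.eq_of_beq_eq_true hl
  set x : ℕ → T := fun i => w.W (X.getD i []) with hxdef
  have hx1 : ∀ i, d ≤ i → x i = 1 := by
    intro i hi
    rw [hxdef]
    change w.W (X.getD i []) = 1
    rw [List.getD_eq_default _ _ (by omega), w.nil]
  have hx : ∀ i, x i ^ r = 1 := by
    intro i
    rcases Nat.lt_or_ge i d with hi | hi
    · change w.W (X.getD i []) ^ r = 1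
      rw [← Wd.W_rep, w.eq_sound (hXr i hi), w.nil]
    · rw [hx1 i hi, one_pow]
  have hc' : ∀ i < d, ∀ j < i, x i * x j = x j * x i := by
    intro i hi j hj
    change w.W (X.getD i []) * w.W (X.getD j []) = w.W (X.getD j []) * w.W (X.getD i [])
    rw [← w.app, w.eq_sound (hXc i hi j hj), w.app]
  have hc : ∀ i j, x i * x j = x j * x i := by
    intro i j
    rcases Nat.lt_or_ge i d with hi | hi
    · rcases Nat.lt_or_ge j d with hj | hj
      · rcases Nat.lt_trichotomy i j with h | h | h
        · exact (hc' j hj i h).symm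
        · rw [h]
        · exact hc' i hi j h
      · rw [hx1 j hj, mul_one, one_mul]
    · rw [hx1 i hi, mul_one, one_mul]
  set n := B.length with hn
  let g : ℕ → T := fun k => if k < n then w.W (G.getD k []) else (w.W (G.getD (k - n) []))⁻¹
  have hgB : ∀ k < n, ∀ i < d, w.W (G.getD k []) * x i * (w.W (G.getD k []))⁻¹ = pv x 0 ((B.getD k []).getD i []) := by
    intro k hk i hi
    have h1 := w.eq_sound (hA k hk i hi)
    rw [w.app, w.app, Wd.W_pvW] at h1
    rw [mul_inv_eq_iff_eq_mul]
    exact h1
  have hshB : ∀ k < n, Shape d (B.getD k []) := by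
    intro k hk
    rw [List.getD_eq_getElem _ _ hk]
    exact shp_sound (List.all_eq_true.1 hB _ (List.getElem_mem hk))
  have hshBi : ∀ k < n, Shape d (Bi.getD k []) := by
    intro k hk
    rw [List.getD_eq_getElem _ _ (by rw [hl]; exact hk)]
    exact shp_sound (List.all_eq_true.1 hBs _ (List.getElem_mem _))
  have hget1 : ∀ k < n, (B ++ Bi).getD k [] = B.getD k [] := by
    intro k hk
    rw [List.getD_append _ _ _ _ hk]
  have hget2 : ∀ k, n ≤ k → (B ++ Bi).getD k [] = Bi.getD (k - n) [] := by
    intro k hk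
    rw [List.getD_append_right _ _ _ _ hk]
  refine Orb.of_orbits hr d m x g hx hx1 hc c₀ ?_ (B ++ Bi) ?_ ?_ (chkO_sound hO)
  · have h1 := w.ne_sound hc₀
    rwa [Wd.W_pvW] at h1
  · intro k hk
    rw [List.length_append, hl] at hk
    rcases Nat.lt_or_ge k n with h | h
    · rw [hget1 k h]; exact (hshB k h).1
    · rw [hget2 k h]; exact (hshBi (k - n) (by omega)).1
  · intro k hk i hi
    rw [List.length_append, hl] at hk
    rcases Nat.lt_or_ge k n with h | h
    · rw [hget1 k h]
      change (if k < n then _ else _) * x i * (if k < n then _ else _)⁻¹ = _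
      rw [if_pos h]
      exact hgB k h i hi
    · rw [hget2 k h]
      change (if k < n then _ else _) * x i * (if k < n then _ else _)⁻¹ = _
      rw [if_neg (by omega)]
      have hk' : k - n < n := by omega
      refine inv_act hx hc hd0 (hshB _ hk') (hshBi _ hk') ?_ (hgB _ hk') i hi
      exact meq_sound (List.all_eq_true.1 hinv (k - n) (List.mem_range.2 hk'))

end Cfsg.Agent.H489.Cyc
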