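import Cfsg.Agent.H489.Cyc.Bfs
import Cfsg.Agent.H489.Cyc.Base
import Cfsg.Agent.H921.SporSuz

/-!
# The Suzuki group: an elementary abelian group of order 243 with 110 or 132 conjugates of each functional (helper489)

`3^5 : M_11`; the words were found by computer in the action on 1782 points.
-/

set_option autoImplicit false
set_option maxRecDepth 100000
set_option maxHeartbeats 0

namespace Cfsg.Agent.H489.Cyc.SuzG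

open Cfsg Cfsg.Agent.OddHalf.Table
open Cfsg.Agent.H921.Spor
open Cfsg.Agent.SporadicRecognition.SuzOrder (eq_one_of_fix)

/-- comparison of words on the base points -/
noncomputable def eqb (u v : List ℕ) : Bool := [14, 98, 1, 1575, 0].all fun q => Nat.beq (SuzRep.ev u q) (SuzRep.ev v q)

theorem eqb_sound {u v : List ℕ} (h : eqb u v = true) : SuzRep.Wd u = SuzRep.Wd v := by
  have h1 : (SuzRep.Wd v)⁻¹ * SuzRep.Wd u = 1 := by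
    refine eq_one_of_fix fun q hq => ?_
    have h2 := Nat.eq_of_beq_eq_true (List.all_eq_true.1 h q hq)
    rw [SuzRep.ev_eq, SuzRep.ev_eq] at h2
    rw [map_mul, map_inv, Equiv.Perm.mul_apply, h2]
    exact Equiv.symm_apply_apply _ _
  exact (inv_mul_eq_one.1 h1).symm

/-- the words of `SuzRep` -/
noncomputable def wd : Wd Cfsg.Spor.Suz where
  W := SuzRep.Wd
  nil := SuzRep.Wd_nil
  app := SuzRep.Wd_append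
  eq := eqb
  eq_sound := eqb_sound
  ne := fun u => (List.range 8).any fun i => !(Nat.beq (SuzRep.ev u i) (SuzRep.ev [] i))
  ne_sound := by
    intro u h
    rw [List.any_eq_true] at h
    obtain ⟨i, _, h⟩ := h
    rw [← SuzRep.Wd_nil]
    exact SuzRep.ne_of_ev (p := i) (by simpa using h)


def X : List (List ℕ) :=
    [[12, 4, 1, 11, 10, 0, 4, 12], [6, 0, 6, 8, 0, 8, 6, 4, 2], [8, 9, 13, 2, 2, 1, 4, 11, 7], [1, 5, 8, 3, 5,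
    13, 1, 6, 11], [3, 6, 10, 13, 4, 9, 2, 13, 1, 3]]

def G : List (List ℕ) :=
    [[7, 5, 3, 7, 2, 5, 7], [1, 12, 1, 5, 8, 3, 9, 3, 7]]

def B : List (List (List ℕ)) :=
    [[[1, 2, 1, 0, 2], [1, 2, 2, 2, 0], [2, 0, 1, 1, 1], [1, 2, 1, 0, 1], [1, 0, 0, 2, 0]], [[2, 2, 2, 1, 0],
    [1, 0, 0, 2, 1], [0, 0, 2, 0, 1], [0, 1, 1, 2, 1], [2, 1, 0, 1, 0]]]

def Bi : List (List (List ℕ)) :=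
    [[[1, 2, 1, 0, 2], [1, 2, 2, 2, 0], [2, 0, 1, 1, 1], [1, 2, 1, 0, 1], [1, 0, 0, 2, 0]], [[0, 2, 2, 2, 1],
    [2, 2, 1, 0, 0], [1, 2, 1, 0, 1], [1, 0, 1, 2, 2], [1, 2, 2, 0, 1]]]

def Ls : List (List ℕ × List (ℕ × ℕ × ℕ × List ℕ)) :=
    [([0, 0, 0, 0, 1], [(0, 0, 2, [2, 0, 1, 1, 0]), (1, 1, 3, [0, 1, 1, 1, 0]), (2, 3, 1, [1, 0, 1, 2, 1]),
    (2, 1, 3, [1, 1, 2, 0, 2]), (3, 3, 1, [1, 2, 0, 2, 1]), (3, 0, 2, [0, 0, 2, 0, 2]), (4, 1, 3, [2, 2, 2, 1,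
    2]), (4, 0, 2, [1, 1, 0, 0, 2]), (5, 3, 1, [1, 0, 0, 2, 1]), (5, 0, 2, [0, 1, 0, 1, 1]), (6, 1, 3, [2, 0,
    0, 2, 0]), (6, 0, 2, [1, 0, 2, 0, 2]), (7, 3, 1, [0, 0, 0, 1, 0]), (7, 1, 3, [1, 2, 0, 1, 0]), (8, 3, 1,
    [0, 2, 1, 0, 0]), (8, 0, 2, [0, 0, 0, 1, 1]), (8, 1, 3, [1, 0, 2, 0, 0]), (9, 3, 1, [1, 1, 2, 2, 2]), (9,
    0, 2, [0, 2, 2, 2, 2]), (9, 1, 3, [0, 0, 1, 1, 2]), (10, 3, 1, [2, 2, 0, 1, 0]), (9, 1, 3, [0, 0, 0, 1,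
    2]), (10, 3, 1, [0, 1, 2, 1, 1]), (10, 0, 2, [0, 2, 1, 0, 2]), (10, 0, 2, [2, 1, 0, 2, 0]), (11, 1, 3, [1,
    0, 0, 1, 2]), (11, 0, 2, [2, 0, 1, 2, 0]), (12, 3, 1, [0, 2, 2, 1, 0]), (12, 1, 3, [1, 0, 1, 0, 1]), (13,
    3, 1, [0, 0, 1, 1, 1]), (13, 0, 2, [0, 2, 1, 0, 1]), (14, 1, 3, [0, 1, 1, 2, 2]), (14, 0, 2, [0, 2, 2, 1,
    2]), (15, 3, 1, [0, 0, 1, 2, 0]), (15, 1, 3, [1, 0, 0, 1, 1]), (16, 3, 1, [2, 0, 2, 1, 1]), (16, 0, 2, [2,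
    1, 1, 0, 2]), (17, 1, 3, [0, 1, 1, 2, 1]), (17, 0, 2, [0, 2, 2, 0, 1]), (18, 3, 1, [0, 2, 0, 1, 0]), (18,
    0, 2, [1, 2, 0, 2, 2]), (19, 1, 3, [1, 1, 2, 1, 1]), (19, 0, 2, [0, 2, 1, 2, 2]), (20, 3, 1, [0, 1, 2, 0,
    1]), (20, 3, 1, [2, 2, 1, 2, 2]), (20, 1, 3, [2, 0, 0, 2, 1]), (21, 3, 1, [0, 0, 1, 0, 1]), (21, 0, 2, [2,
    0, 2, 0, 0]), (21, 1, 3, [2, 0, 2, 2, 0]), (22, 3, 1, [0, 2, 0, 1, 1]), (22, 0, 2, [0, 1, 0, 0, 2]), (21,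
    0, 2, [0, 1, 0, 2, 2]), (22, 3, 1, [2, 1, 2, 2, 0]), (22, 1, 3, [0, 1, 0, 1, 2]), (23, 3, 1, [1, 2, 0, 0,
    1]), (23, 0, 2, [1, 2, 2, 2, 1]), (23, 1, 3, [0, 1, 0, 2, 0]), (24, 3, 1, [0, 0, 2, 2, 1]), (23, 1, 3, [0,
    1, 1, 0, 0]), (23, 0, 2, [0, 2, 2, 2, 1]), (24, 3, 1, [1, 0, 2, 2, 1]), (24, 1, 3, [2, 1, 1, 1, 2]), (25,
    3, 1, [0, 1, 1, 1, 2]), (25, 0, 2, [2, 2, 1, 1, 1]), (25, 1, 3, [2, 1, 2, 2, 2]), (26, 3, 1, [0, 0, 1, 1,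
    0]), (26, 0, 2, [1, 0, 1, 1, 2]), (25, 0, 2, [1, 0, 0, 0, 0]), (25, 1, 3, [2, 0, 1, 0, 1]), (25, 0, 2, [0,
    0, 0, 2, 0]), (25, 0, 2, [2, 0, 0, 0, 0]), (26, 3, 1, [0, 0, 0, 2, 1]), (26, 0, 2, [1, 0, 1, 0, 0]), (27,
    1, 3, [0, 1, 1, 2, 0]), (27, 0, 2, [0, 2, 2, 2, 0]), (28, 3, 1, [0, 1, 2, 0, 0]), (28, 1, 3, [2, 2, 1, 2,
    1]), (29, 3, 1, [1, 0, 1, 1, 0]), (29, 0, 2, [1, 1, 2, 1, 0]), (29, 0, 2, [0, 0, 2, 2, 2]), (30, 3, 1, [1,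
    1, 2, 1, 2]), (30, 1, 3, [2, 2, 2, 0, 1]), (31, 3, 1, [1, 2, 1, 1, 1]), (31, 1, 3, [1, 0, 2, 1, 0]), (31,
    0, 2, [0, 0, 2, 0, 0]), (31, 1, 3, [0, 1, 2, 2, 2]), (30, 3, 1, [1, 2, 2, 0, 1]), (30, 0, 2, [2, 0, 2, 2,
    1]), (31, 1, 3, [1, 1, 0, 2, 0]), (31, 3, 1, [0, 2, 0, 2, 2]), (30, 3, 1, [1, 0, 1, 2, 0]), (30, 0, 2, [2,
    0, 1, 1, 2]), (30, 0, 2, [0, 2, 2, 1, 1]), (31, 1, 3, [0, 0, 1, 0, 0]), (31, 0, 2, [1, 0, 1, 2, 2]), (32,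
    3, 1, [2, 0, 2, 1, 0]), (32, 1, 3, [2, 2, 0, 0, 1]), (33, 3, 1, [0, 0, 2, 1, 0]), (33, 1, 3, [0, 2, 0, 0,
    1]), (33, 3, 1, [1, 1, 1, 0, 2]), (33, 1, 3, [2, 2, 1, 2, 0]), (34, 3, 1, [0, 0, 1, 2, 2]), (34, 1, 3, [2,
    1, 0, 0, 2]), (35, 3, 1, [0, 2, 1, 1, 1]), (35, 0, 2, [2, 1, 0, 1, 2]), (35, 3, 1, [1, 0, 0, 1, 0]), (34,
    0, 2, [2, 1, 0, 1, 1]), (32, 1, 3, [1, 1, 1, 2, 1]), (33, 3, 1, [0, 0, 0, 0, 2]), (32, 0, 2, [0, 0, 2, 2,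
    0]), (31, 1, 3, [0, 0, 1, 2, 1]), (31, 1, 3, [0, 0, 0, 2, 2]), (32, 3, 1, [1, 2, 1, 1, 0]), (30, 3, 1, [0,
    1, 1, 0, 2]), (28, 0, 2, [2, 1, 0, 0, 1]), (27, 3, 1, [0, 0, 2, 1, 1]), (26, 0, 2, [2, 2, 1, 0, 1]), (25,
    3, 1, [0, 2, 2, 0, 0]), (25, 3, 1, [2, 0, 1, 0, 0]), (24, 1, 3, [0, 1, 1, 1, 1]), (23, 0, 2, [2, 0, 2, 1,
    2]), (23, 0, 2, [2, 0, 0, 2, 2]), (21, 1, 3, [0, 0, 2, 1, 2]), (21, 0, 2, [2, 0, 2, 0, 1]), (21, 1, 3, [0,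
    1, 2, 0, 2]), (21, 0, 2, [1, 2, 0, 0, 2]), (22, 3, 1, [0, 2, 0, 2, 1]), (22, 1, 3, [1, 0, 2, 2, 0]), (21,
    3, 1, [2, 0, 2, 0, 2]), (21, 1, 3, [2, 0, 0, 1, 2]), (14, 0, 2, [1, 0, 1, 0, 2])]), ([0, 0, 1, 0, 2], [(0,
    0, 2, [2, 2, 0, 0, 0]), (1, 1, 3, [2, 2, 1, 0, 0]), (2, 3, 1, [1, 1, 0, 2, 1]), (2, 1, 3, [2, 2, 0, 2,
    0]), (3, 3, 1, [1, 2, 0, 2, 0]), (3, 0, 2, [1, 2, 2, 1, 2]), (4, 1, 3, [1, 2, 2, 0, 0]), (4, 0, 2, [2, 1,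
    2, 1, 2]), (5, 3, 1, [1, 1, 1, 1, 1]), (5, 0, 2, [0, 1, 0, 0, 0]), (6, 1, 3, [1, 0, 0, 0, 2]), (6, 0, 2,
    [2, 0, 1, 2, 2]), (7, 3, 1, [2, 0, 2, 2, 2]), (7, 1, 3, [2, 2, 0, 2, 2]), (8, 3, 1, [0, 2, 0, 0, 2]), (8,
    0, 2, [1, 0, 1, 1, 1]), (8, 1, 3, [2, 0, 0, 1, 0]), (9, 3, 1, [1, 2, 2, 1, 1]), (9, 0, 2, [0, 1, 2, 2,
    0]), (9, 1, 3, [2, 0, 0, 1, 1]), (10, 3, 1, [2, 2, 2, 0, 2]), (10, 0, 2, [2, 1, 1, 0, 1]), (10, 1, 3, [2,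
    2, 1, 1, 0]), (11, 3, 1, [2, 2, 2, 2, 0]), (11, 0, 2, [2, 1, 1, 0, 0]), (11, 0, 2, [1, 1, 2, 2, 0]), (12,
    1, 3, [1, 2, 2, 2, 2]), (12, 0, 2, [2, 1, 2, 0, 0]), (13, 3, 1, [0, 1, 0, 1, 0]), (13, 1, 3, [2, 1, 0, 1,
    0]), (14, 3, 1, [2, 0, 0, 0, 1]), (14, 0, 2, [2, 1, 2, 2, 1]), (15, 1, 3, [2, 1, 0, 2, 2]), (15, 0, 2, [0,
    2, 0, 2, 0]), (16, 3, 1, [2, 2, 2, 1, 1]), (16, 1, 3, [2, 1, 1, 1, 0]), (17, 3, 1, [1, 1, 1, 0, 0]), (17,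
    0, 2, [1, 1, 0, 0, 1]), (18, 1, 3, [2, 2, 1, 0, 2]), (18, 0, 2, [0, 1, 2, 1, 2]), (19, 3, 1, [1, 1, 1, 2,
    0]), (19, 1, 3, [2, 0, 0, 0, 2]), (20, 3, 1, [2, 1, 0, 2, 1]), (20, 0, 2, [1, 1, 0, 1, 1]), (20, 3, 1, [0,
    1, 2, 2, 1]), (20, 1, 3, [2, 2, 2, 2, 2]), (21, 3, 1, [1, 1, 2, 0, 0]), (21, 1, 3, [1, 2, 1, 1, 2]), (22,
    3, 1, [1, 0, 2, 1, 1]), (22, 0, 2, [2, 1, 2, 0, 2]), (22, 1, 3, [1, 2, 1, 0, 2]), (23, 3, 1, [0, 2, 0, 1,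
    2]), (23, 0, 2, [2, 1, 1, 2, 2]), (23, 1, 3, [1, 1, 0, 0, 0]), (23, 0, 2, [1, 2, 2, 0, 2]), (24, 3, 1, [1,
    1, 0, 1, 0]), (23, 0, 2, [2, 2, 2, 0, 0]), (23, 1, 3, [0, 1, 0, 0, 1]), (24, 3, 1, [2, 1, 1, 1, 1]), (24,
    0, 2, [1, 0, 2, 0, 1]), (24, 0, 2, [2, 2, 0, 2, 1]), (25, 1, 3, [0, 1, 2, 1, 0]), (25, 0, 2, [1, 2, 0, 1,
    1]), (26, 3, 1, [1, 2, 1, 2, 2]), (26, 1, 3, [1, 2, 1, 2, 0]), (27, 3, 1, [0, 1, 1, 0, 1]), (26, 1, 3, [1,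
    1, 0, 1, 2]), (27, 3, 1, [1, 1, 0, 2, 2]), (27, 0, 2, [1, 0, 2, 1, 2]), (27, 1, 3, [1, 1, 2, 2, 1]), (27,
    0, 2, [0, 2, 1, 2, 0]), (28, 3, 1, [1, 0, 2, 2, 2]), (28, 3, 1, [2, 1, 1, 2, 1]), (27, 0, 2, [0, 2, 1, 1,
    0]), (28, 1, 3, [2, 2, 0, 1, 2]), (28, 3, 1, [0, 0, 2, 0, 1]), (28, 0, 2, [1, 0, 0, 2, 0]), (29, 1, 3, [0,
    2, 1, 1, 2]), (29, 3, 1, [1, 1, 1, 1, 0]), (29, 3, 1, [2, 2, 2, 2, 1]), (29, 1, 3, [2, 0, 1, 2, 1]), (29,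
    3, 1, [2, 1, 0, 0, 0]), (29, 1, 3, [1, 2, 1, 2, 1]), (30, 3, 1, [1, 1, 1, 2, 2]), (29, 1, 3, [1, 0, 0, 0,
    1]), (30, 3, 1, [1, 2, 0, 1, 2]), (30, 0, 2, [0, 2, 0, 0, 0]), (30, 3, 1, [2, 1, 2, 1, 1]), (30, 0, 2, [1,
    2, 1, 0, 0]), (30, 0, 2, [1, 2, 1, 0, 1]), (30, 1, 3, [0, 2, 2, 0, 2]), (31, 3, 1, [2, 1, 1, 2, 0]), (31,
    1, 3, [1, 1, 1, 1, 2]), (32, 3, 1, [0, 2, 1, 2, 1]), (29, 1, 3, [1, 2, 2, 1, 0]), (29, 0, 2, [2, 1, 2, 1,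
    0]), (30, 3, 1, [2, 0, 1, 0, 2]), (30, 0, 2, [1, 2, 2, 2, 0]), (29, 1, 3, [1, 2, 0, 0, 0]), (30, 3, 1, [2,
    1, 2, 0, 1]), (19, 0, 2, [2, 2, 2, 1, 0]), (16, 0, 2, [0, 1, 0, 2, 1]), (17, 1, 3, [2, 2, 1, 1, 2]), (17,
    3, 1, [2, 0, 1, 1, 1]), (17, 1, 3, [1, 0, 0, 2, 2]), (18, 3, 1, [1, 1, 1, 0, 1]), (16, 1, 3, [2, 2, 0, 1,
    1]), (16, 1, 3, [2, 2, 0, 0, 2]), (7, 3, 1, [1, 1, 2, 0, 1])])]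

theorem hXr : (List.range 5).all (fun i => eqb (Wd.rep (X.getD i []) 3) []) = true := by decide +kernel

theorem hXc : (List.range 5).all (fun i => (List.range i).all fun j =>
    eqb (X.getD i [] ++ X.getD j []) (X.getD j [] ++ X.getD i [])) = true := by decide +kernel

theorem hA : (List.range 2).all (fun k => (List.range 5).all fun i =>
    eqb (G.getD k [] ++ X.getD i []) (Wd.pvW X 0 ((B.getD k []).getD i []) ++ G.getD k [])) = true := by decide +kernel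

theorem hO : chkO 3 5 110 (B ++ Bi) [1, 0, 0, 0, 0] Ls = true := by decide +kernel

theorem hne : ((List.range 8).any fun i => !(Nat.beq (SuzRep.ev (Wd.pvW X 0 [1, 0, 0, 0, 0]) i) (SuzRep.ev [] i))) =
    true := by decide +kernel

theorem orb : Orb 3 110 Cfsg.Spor.Suz := by
  refine orb_bfs wd (r := 3) (d := 5) (X := X) (G := G) (B := B) (Bi := Bi) (c₀ := [1, 0, 0, 0, 0]) (Ls := Ls)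
    (by norm_num) (by norm_num) rfl ?_ ?_ hne (by decide +kernel) ?_ (by decide +kernel) hO
  · intro i hi
    exact List.all_eq_true.1 hXr i (List.mem_range.2 hi)
  · intro i hi j hj
    exact List.all_eq_true.1 (List.all_eq_true.1 hXc i (List.mem_range.2 hi)) j (List.mem_range.2 hj)
  · intro k hk i hi
    exact List.all_eq_true.1 (List.all_eq_true.1 hA k (List.mem_range.2 hk)) i (List.mem_range.2 hi)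

end Cfsg.Agent.H489.Cyc.SuzG
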